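import Groth.Agent.ML41.Homology

/-! Elementwise consequences of a quasi-isomorphism of complexes of abelian groups. -/

set_option autoImplicit false
universe u

open CategoryTheory

namespace CTot49

lemma qiso_inj {K L : CochainComplex AddCommGrpCat.{u} ℤ} (φ : K ⟶ L) [QuasiIso φ] {i j k : ℤ}
    (h : i + 1 = j) (h' : j + 1 = k) (c : K.X j) (e : L.X i) (hc : (K.d j k).hom c = 0)
    (he : (φ.f j).hom c = (L.d i j).hom e) : ∃ x, (K.d i j).hom x = c := by
  subst h'
  have hinj : Function.Injective (HomologicalComplex.homologyMap φ j).hom :=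
    (ConcreteCategory.bijective_of_isIso (HomologicalComplex.homologyMap φ j)).1
  refine (ML41.cls_eq_zero_iff _ h c hc).1 (hinj ?_)
  rw [ML41.map_cls φ c hc]
  exact ((ML41.cls_eq_zero_iff _ h _ _).2 ⟨e, he.symm⟩).trans (map_zero _).symm

lemma qiso_surj {K L : CochainComplex AddCommGrpCat.{u} ℤ} (φ : K ⟶ L) [QuasiIso φ] {i j k : ℤ}
    (h : i + 1 = j) (h' : j + 1 = k) (z : L.X j) (hz : (L.d j k).hom z = 0) :
    ∃ c e, (K.d j k).hom c = 0 ∧ z = (φ.f j).hom c + (L.d i j).hom e := by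
  subst h'
  obtain ⟨y, hy⟩ := (ConcreteCategory.bijective_of_isIso (HomologicalComplex.homologyMap φ j)).2
    (ML41.cls L z hz)
  obtain ⟨c, hc, rfl⟩ := ML41.cls_surjective K y
  have hy' := (ML41.map_cls φ c hc).symm.trans hy
  have hfc : (L.d j (j + 1)).hom ((φ.f j).hom c) = 0 := by rw [← ML41.f_d, hc, map_zero]
  have : ML41.cls L (z - (φ.f j).hom c) (by rw [map_sub, hz, hfc, sub_zero]) = 0 := by
    rw [ML41.cls_sub L z _ hz hfc, hy', sub_self]
  obtain ⟨e, he⟩ := (ML41.cls_eq_zero_iff _ h _ _).1 this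
  exact ⟨c, e, hc, by rw [he]; abel⟩

end CTot49
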