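import Groth.Agent.CTot49.DC
import Groth.Agent.SpSeq49.AbHomology

/-! Augmented double complexes with exact rows. -/

set_option autoImplicit false
universe u

open CategoryTheory

namespace CTot49

/-- An augmentation of a double complex: exact rows. -/
structure Aug (M : DC.{u}) where
  A : ℤ → Type u
  [inst : ∀ n, AddCommGroup (A n)]
  d : ∀ n m, A n →+ A m
  η : ∀ n, A n →+ M.Φ 0 n
  η_v : ∀ n m, n + 1 = m → ∀ x, η m (d n m x) = M.v 0 n m (η n x)
  η_inj : ∀ n, Function.Injective (η n)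
  η_h : ∀ n m, n + 1 = m → ∀ x, M.h 0 n m (η n x) = 0
  ker_h : ∀ n m, n + 1 = m → ∀ c, M.h 0 n m c = 0 → ∃ x, η n x = c
  row : ∀ p n (m : ℤ), n + 1 = m → ∀ k : ℤ, m + 1 = k →
      ∀ c : M.Φ (p + 1) m, M.h (p + 1) m k c = 0 → ∃ b : M.Φ p n, M.h p n m b = c

attribute [instance] Aug.inst

namespace Aug

variable {M : DC.{u}} (G : Aug M)

/-- The augmentation, in families. -/
noncomputable def ηF (n : ℤ) : G.A n →+ M.Fam n := (M.single n 0).comp (G.η n)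

lemma ηF_zero (n : ℤ) (x : G.A n) : G.ηF n x 0 = G.η n x := M.single_same n 0 _

lemma ηF_succ (n : ℤ) (x : G.A n) (j : ℕ) : G.ηF n x (j + 1) = 0 := M.single_ne n (G.η n x) (Nat.succ_ne_zero j)

lemma D_ηF {n m : ℤ} (e : n + 1 = m) (x : G.A n) :
    M.D n m (G.ηF n x) = G.ηF m (G.d n m x) := by
  funext j
  match j with
  | 0 => rw [DC.D_zero, ηF_zero, ηF_zero, G.η_v n m e]
  | 1 => rw [DC.D_succ, ηF_succ, ηF_succ, ηF_zero, G.η_h n m e, map_zero, add_zero]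
  | j + 2 => rw [DC.D_succ, ηF_succ, ηF_succ, ηF_succ, map_zero, map_zero, add_zero]

/-- Cocycles of the augmenting complex. -/
abbrev ZA (n : ℤ) : AddSubgroup (G.A n) := (G.d n (n + 1)).ker

/-- The comparison of cocycles to cohomology. -/
noncomputable def toH (n : ℤ) : G.ZA n →+ M.H n :=
  (QuotientAddGroup.mk' (M.B n)).comp
    (((G.ηF n).comp (G.ZA n).subtype).codRestrict (M.Z n) fun s => by
      change M.D n (n + 1) (G.ηF n s.1) = 0
      rw [G.D_ηF rfl, (s.2 : G.d n (n + 1) s.1 = 0), map_zero])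

lemma exists_eq_ηF {n m : ℤ} (e : n + 1 = m) (x : M.Fam n) (h : ∀ j, x (j + 1) = 0)
    (h0 : M.h 0 n m (x 0) = 0) : ∃ s, G.ηF n s = x := by
  obtain ⟨s, hs⟩ := G.ker_h n m e _ h0
  refine ⟨s, funext fun j => ?_⟩
  cases j with
  | zero => rw [ηF_zero, hs]
  | succ j => rw [ηF_succ, h]

lemma toH_surjective (n : ℤ) : Function.Surjective (G.toH n) := by
  intro q
  obtain ⟨y, rfl⟩ := QuotientAddGroup.mk_surjective q
  have hy : M.D n (n + 1) y.1 = 0 := y.2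
  obtain ⟨w, hw, hw0⟩ := M.exists_descend G.row (show n - 1 + 1 = n by omega) rfl y.1
    (fun j => congrFun hy (j + 1))
  obtain ⟨s, hs⟩ := G.exists_eq_ηF rfl _ hw hw0
  have hs' : G.d n (n + 1) s = 0 := G.η_inj _ (by
    rw [map_zero, ← G.ηF_zero, ← G.D_ηF rfl, hs, map_sub, M.D_D (by omega) rfl, sub_zero, hy]
    rfl)
  refine ⟨⟨s, hs'⟩, (QuotientAddGroup.eq).2 ⟨w, ?_⟩⟩
  change _ = -(G.ηF n s) + y.1
  rw [hs]; abel

lemma toH_eq_zero_iff (n : ℤ) (s : G.ZA n) :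
    G.toH n s = 0 ↔ ∃ t, G.d (n - 1) n t = s.1 := by
  refine Iff.trans (QuotientAddGroup.eq_zero_iff _) ⟨?_, ?_⟩
  · rintro ⟨x, hx⟩
    change M.D (n - 1) n x = G.ηF n s.1 at hx
    have hx' : ∀ j, M.D (n - 1) n x (j + 1) = 0 := fun j => by rw [hx, ηF_succ]
    obtain ⟨w, hw, hw0⟩ := M.exists_descend G.row (show n - 1 - 1 + 1 = n - 1 by omega)
      (show n - 1 + 1 = n by omega) x hx'
    obtain ⟨t, ht⟩ := G.exists_eq_ηF (show n - 1 + 1 = n by omega) _ hw hw0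
    refine ⟨t, G.η_inj _ ?_⟩
    rw [← G.ηF_zero, ← G.ηF_zero, ← G.D_ηF (by omega), ht, map_sub,
      M.D_D (by omega) (by omega), sub_zero, hx]
  · rintro ⟨t, ht⟩
    exact ⟨G.ηF (n - 1) t, by
      change M.D (n - 1) n _ = G.ηF n s.1
      rw [G.D_ηF (by omega), ht]⟩

end Aug

end CTot49
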