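import Groth.Agent.CTot49.Aug
import Groth.Agent.TopCoh49.CechCoh
import Groth.Agent.TopCoh49.CechFlasque
import Mathlib.Algebra.Homology.Embedding.CochainComplex
import Mathlib.Algebra.Ring.NegOnePow

/-! The Cech double complex of a bounded below complex of abelian sheaves. -/

set_option autoImplicit false
universe u

open CategoryTheory CategoryTheory.Limits Opposite TopologicalSpace Groth.Agent.TopCoh49

namespace CTot49

variable {X : TopCat.{u}} {ι : Type u} (U : ι → Opens X)

/-- Equality morphisms between the terms of a complex, and zero otherwise. -/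
noncomputable def cst (K : CochainComplex (CohTop.Ab X) ℤ) (i j : ℤ) : K.X i ⟶ K.X j :=
  if h : i = j then (K.XIsoOfEq h).hom else 0

lemma cst_self (K : CochainComplex (CohTop.Ab X) ℤ) (i : ℤ) : cst K i i = 𝟙 _ := by
  rw [cst, dif_pos rfl]
  rfl

lemma d_cst (K : CochainComplex (CohTop.Ab X) ℤ) {i j k : ℤ} (h : j = k) :
    K.d i j ≫ cst K j k = K.d i k := by
  subst h
  rw [cst_self, Category.comp_id]

lemma cst_d (K : CochainComplex (CohTop.Ab X) ℤ) {i j k : ℤ} (h : i = j) :
    cst K i j ≫ K.d j k = K.d i k := by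
  subst h
  rw [cst_self, Category.id_comp]

lemma cst_naturality {K L : CochainComplex (CohTop.Ab X) ℤ} (φ : K ⟶ L) {i j : ℤ} (h : i = j) :
    cst K i j ≫ φ.f j = φ.f i ≫ cst L i j := by
  subst h
  rw [cst_self, cst_self, Category.id_comp, Category.comp_id]

lemma cst_inv (K : CochainComplex (CohTop.Ab X) ℤ) {i j : ℤ} (h : i = j) :
    cst K i j ≫ cst K j i = 𝟙 _ := by
  subst h
  rw [cst_self, Category.comp_id]

lemma cochMap_comp {A B C : CohTop.Ab X} (φ : A ⟶ B) (ψ : B ⟶ C) (p : ℕ) (f : Coch A.obj U p) :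
    cochMap U ψ.hom p (cochMap U φ.hom p f) = cochMap U (φ ≫ ψ).hom p f := rfl

lemma cochMap_id (A : CohTop.Ab X) (p : ℕ) (f : Coch A.obj U p) :
    cochMap U (𝟙 A : A ⟶ A).hom p f = f := rfl

lemma cochMap_zero (A B : CohTop.Ab X) (p : ℕ) (f : Coch A.obj U p) :
    cochMap U (0 : A ⟶ B).hom p f = 0 := rfl

lemma subsingleton_sections {A : CohTop.Ab X} (hA : IsZero A) (V : (Opens X)ᵒᵖ) :
    Subsingleton (A.obj.obj V) :=
  AddCommGrpCat.subsingleton_of_isZero ((sheafToPresheaf (Opens.grothendieckTopology X)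
    AddCommGrpCat.{u} ⋙ (evaluation (Opens X)ᵒᵖ AddCommGrpCat.{u}).obj V).map_isZero hA)

variable (K : CochainComplex (CohTop.Ab X) ℤ)

/-- Cochains in column `p` and total degree `n`. -/
abbrev CC (p : ℕ) (n : ℤ) : Type u := Coch (K.X (n - (p : ℤ))).obj U p

/-- The vertical differential. -/
noncomputable def cv (p : ℕ) (n m : ℤ) : CC U K p n →+ CC U K p m :=
  cochMap U (K.d (n - (p : ℤ)) (m - (p : ℤ))).hom p

/-- The horizontal differential. -/
noncomputable def ch (p : ℕ) (n m : ℤ) : CC U K p n →+ CC U K (p + 1) m :=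
  (((n - (p : ℤ)).negOnePow : ℤˣ) : ℤ) •
    (cochMap U (cst K (n - (p : ℤ)) (m - ((p + 1 : ℕ) : ℤ))).hom (p + 1)).comp
      (cochD (K.X (n - (p : ℤ))).obj U p)

lemma ch_apply (p : ℕ) (n m : ℤ) (x : CC U K p n) :
    ch U K p n m x = (((n - (p : ℤ)).negOnePow : ℤˣ) : ℤ) •
      cochMap U (cst K (n - (p : ℤ)) (m - ((p + 1 : ℕ) : ℤ))).hom (p + 1)
        (cochD (K.X (n - (p : ℤ))).obj U p x) := rfl

/-- The Cech double complex. -/
@[reducible] noncomputable def dc (a : ℤ) (ha : ∀ i : ℤ, i < a → IsZero (K.X i)) : DC.{u} where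
  Φ := CC U K
  v := cv U K
  h := ch U K
  bound := a
  sub p n hn := by
    haveI := fun c : Fin (p + 1) → ι =>
      subsingleton_sections (ha (n - (p : ℤ)) (by omega)) (op (inter U c))
    exact Pi.instSubsingleton
  vv p n m k e e' x := by
    rw [cv, cv, cochMap_comp, K.d_comp_d, cochMap_zero]
  hh p n m k e e' x := by
    rw [ch_apply, ch_apply, map_zsmul, map_zsmul, cochD_cochMap, cochD_cochD, map_zero, map_zero,
      smul_zero, smul_zero]
  hv p n m k e e' x := by
    rw [ch_apply, ch_apply, map_zsmul]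
    simp only [cv]
    rw [cochD_cochMap, cochMap_comp, cochMap_comp, d_cst K (by push_cast; omega),
      cst_d K (by push_cast; omega), show m - (p : ℤ) = n - (p : ℤ) + 1 by omega,
      Int.negOnePow_succ, Units.val_neg, neg_smul]
    exact neg_add_cancel _

variable {K} {L : CochainComplex (CohTop.Ab X) ℤ} (φ : K ⟶ L) (a : ℤ)
  (haK : ∀ i : ℤ, i < a → IsZero (K.X i)) (haL : ∀ i : ℤ, i < a → IsZero (L.X i))

/-- Functoriality. -/
noncomputable def dcMap : DCHom (dc U K a haK) (dc U L a haL) where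
  f p n := cochMap U (φ.f (n - (p : ℤ))).hom p
  bound_eq := rfl
  comm_v p n m e x := by
    change cochMap U _ p (cv U K p n m x) = cv U L p n m (cochMap U _ p x)
    simp only [cv]
    rw [cochMap_comp, cochMap_comp, φ.comm]
  comm_h p n m e x := by
    change cochMap U _ (p + 1) (ch U K p n m x) = ch U L p n m (cochMap U _ p x)
    rw [ch_apply, ch_apply, map_zsmul, cochD_cochMap, cochMap_comp, cochMap_comp,
      cst_naturality φ (by push_cast; omega)]

end CTot49
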