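import Groth.Agent.CTot49.Cech
import Groth.Agent.Rlim44.RestrHDU

/-! The Cech bicomplex of injectives computes hypercohomology. -/

set_option autoImplicit false
universe u

open CategoryTheory CategoryTheory.Limits Opposite TopologicalSpace Groth.Agent.TopCoh49

namespace CTot49

variable {X : TopCat.{u}} {ι : Type u} (U : ι → Opens X)
  (I : CochainComplex (CohTop.Ab X) ℤ) (a : ℤ) (ha : ∀ i : ℤ, i < a → IsZero (I.X i))

lemma cochMap_cst_inv {i j : ℤ} (h : i = j) (p : ℕ) (f : Coch (I.X i).obj U p) :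
    cochMap U (cst I j i).hom p (cochMap U (cst I i j).hom p f) = f := by
  rw [cochMap_comp, cst_inv I h, cochMap_id]

/-- The augmentation by sections over the union. -/
noncomputable def etaI (n : ℤ) : (I.X n).obj.obj (op (iSup U)) →+ CC U I 0 n :=
  (cochMap U (cst I n (n - ((0 : ℕ) : ℤ))).hom 0).comp (cres U (I.X n).obj)

lemma etaI_apply (n : ℤ) (x : (I.X n).obj.obj (op (iSup U))) :
    etaI U I n x = cochMap U (cst I n (n - ((0 : ℕ) : ℤ))).hom 0 (cres U (I.X n).obj x) := rfl

lemma etaI_v (n m : ℤ) (x : (I.X n).obj.obj (op (iSup U))) :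
    etaI U I m ((I.d n m).hom.app (op (iSup U)) x) = cv U I 0 n m (etaI U I n x) := by
  rw [etaI_apply, etaI_apply, cv, ← cochMap_cres, cochMap_comp, cochMap_comp,
    d_cst I (by simp), cst_d I (by simp)]

/-- The augmented bicomplex of a complex of flasque sheaves. -/
noncomputable def aug (hI : ∀ n, TopCat.Sheaf.IsFlasque (I.X n)) : Aug (dc U I a ha) where
  A n := (I.X n).obj.obj (op (iSup U))
  d n m := ((I.d n m).hom.app (op (iSup U))).hom
  η := etaI U I
  η_v n m _ x := etaI_v U I n m x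
  η_inj n x y h := cres_injective U (I.X n) (by
    have h' := congrArg (cochMap U (cst I (n - ((0 : ℕ) : ℤ)) n).hom 0) h
    rwa [etaI_apply, etaI_apply, cochMap_cst_inv U I (by simp), cochMap_cst_inv U I (by simp)]
      at h')
  η_h n m _ x := by
    change ch U I 0 n m (etaI U I n x) = 0
    rw [ch_apply, etaI_apply, cochD_cochMap, cochD_cres, map_zero, map_zero, smul_zero]
  ker_h n m e c hc := by
    change ch U I 0 n m c = 0 at hc
    rw [ch_apply, ← map_zsmul] at hc
    have hd : cochD (I.X (n - ((0 : ℕ) : ℤ))).obj U 0 c = 0 := by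
      have h' := congrArg (cochMap U (cst I (m - ((0 + 1 : ℕ) : ℤ)) (n - ((0 : ℕ) : ℤ))).hom (0 + 1)) hc
      rw [cochMap_cst_inv U I (by push_cast; omega), map_zero] at h'
      rcases Int.units_eq_one_or ((n - ((0 : ℕ) : ℤ)).negOnePow) with hs | hs <;> rw [hs] at h'
      · rwa [Units.val_one, one_smul] at h'
      · rwa [Units.val_neg, Units.val_one, neg_smul, one_smul, neg_eq_zero] at h'
    obtain ⟨s, hs⟩ := exists_cres_of_cocycle U (I.X n)
      (cochMap U (cst I (n - ((0 : ℕ) : ℤ)) n).hom 0 c) (by rw [cochD_cochMap, hd, map_zero])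
    exact ⟨s, by rw [etaI_apply, hs, cochMap_cst_inv U I (by simp)]⟩
  row p n m e k e' c hc := by
    change ch U I (p + 1) m k c = 0 at hc
    rw [ch_apply, ← map_zsmul] at hc
    have hd : cochD (I.X (m - ((p + 1 : ℕ) : ℤ))).obj U (p + 1) c = 0 := by
      have h' := congrArg (cochMap U (cst I (k - ((p + 1 + 1 : ℕ) : ℤ)) (m - ((p + 1 : ℕ) : ℤ))).hom
        (p + 1 + 1)) hc
      rw [cochMap_cst_inv U I (by push_cast; omega), map_zero] at h'
      rcases Int.units_eq_one_or ((m - ((p + 1 : ℕ) : ℤ)).negOnePow) with hs | hs <;> rw [hs] at h'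
      · rwa [Units.val_one, one_smul] at h'
      · rwa [Units.val_neg, Units.val_one, neg_smul, one_smul, neg_eq_zero] at h'
    haveI := hI (m - ((p + 1 : ℕ) : ℤ))
    obtain ⟨g, hg⟩ := (isZero_cechH_succ_iff _ U p).1
      (isZero_cechH_of_isFlasque U (I.X (m - ((p + 1 : ℕ) : ℤ))) p) c hd
    refine ⟨(((n - (p : ℤ)).negOnePow : ℤˣ) : ℤ) •
      cochMap U (cst I (m - ((p + 1 : ℕ) : ℤ)) (n - (p : ℤ))).hom p g, ?_⟩
    change ch U I p n m _ = c
    rw [ch_apply, map_zsmul, cochD_cochMap, map_zsmul, cochMap_cst_inv U I (by push_cast; omega), hg,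
      smul_smul, ← Units.val_mul, Int.units_mul_self, Units.val_one, one_smul]

variable [HasDerivedCategory.{u} (CohTop.Ab X)]

/-- Classes of cocycles over `U`. -/
noncomputable abbrev clsU (n : ℤ) (V : Opens X) :
    ((I.d n (n + 1)).hom.app (op V)).hom.ker →+ CohCx.HDU (DerivedCategory.Q.obj I) n V :=
  Groth.Agent.Rlim44.sclsHom I n V

variable [I.IsKInjective]

lemma clsU_surjective (n : ℤ) (V : Opens X) : Function.Surjective (clsU I n V) := fun x => by
  obtain ⟨s, hs, h⟩ := Groth.Agent.Rlim44.scls_surjective I x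
  exact ⟨⟨s, hs⟩, h⟩

variable (hI : ∀ n, TopCat.Sheaf.IsFlasque (I.X n))

lemma toH_clsU_ker (n : ℤ) (s : (aug U I a ha hI).ZA n) :
    (aug U I a ha hI).toH n s = 0 ↔ clsU I n (iSup U) s = 0 :=
  ((aug U I a ha hI).toH_eq_zero_iff n s).trans
    (Groth.Agent.Rlim44.scls_eq_zero_iff I s.1 s.2).symm

/-- Cohomology of the bicomplex is hypercohomology. -/
noncomputable def hEquiv (n : ℤ) :
    (dc U I a ha).H n ≃+ CohCx.HDU (DerivedCategory.Q.obj I) n (iSup U) :=
  Groth.Agent.TopCoh49.equivOfKerEq ((aug U I a ha hI).toH n) (clsU I n (iSup U))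
    ((aug U I a ha hI).toH_surjective n) (clsU_surjective I n (iSup U))
    (AddSubgroup.ext fun s => toH_clsU_ker U I a ha hI n s)

lemma hEquiv_toH (n : ℤ) (s : (aug U I a ha hI).ZA n) :
    hEquiv U I a ha hI n ((aug U I a ha hI).toH n s) = clsU I n (iSup U) s := by
  simp only [hEquiv, Groth.Agent.TopCoh49.equivOfKerEq, AddEquiv.trans_apply]
  rw [show (QuotientAddGroup.quotientKerEquivOfSurjective ((aug U I a ha hI).toH n)
    ((aug U I a ha hI).toH_surjective n)).symm ((aug U I a ha hI).toH n s) = QuotientAddGroup.mk s from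
    (AddEquiv.symm_apply_eq _).2 rfl]
  rfl

end CTot49
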