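import Groth.Prelude.Def_CohB1
import Groth.Prelude.Def_HTor
import Groth.Agent.CTot49.Inj
import Mathlib.Algebra.Homology.ShortComplex.Ab

/-! Classes in Cech cohomology of hypercohomology presheaves. -/

set_option autoImplicit false
universe u

open CategoryTheory CategoryTheory.Limits Opposite TopologicalSpace Groth.Agent.TopCoh49

namespace CTot49

universe v' u'

/-- Postcomposition with an isomorphism, in any preadditive category. -/
noncomputable def postIso {T : Type u'} [Category.{v'} T] [Preadditive T] {Z Z' : T} (i : Z ≅ Z')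
    (A : T) : (A ⟶ Z) ≃+ (A ⟶ Z') where
  toFun f := f ≫ i.hom
  invFun g := g ≫ i.inv
  left_inv f := by simp
  right_inv g := by simp
  map_add' f g := Preadditive.add_comp _ _ _ f g _

lemma postIso_precomp {T : Type u'} [Category.{v'} T] [Preadditive T] {Z Z' A B : T} (i : Z ≅ Z')
    (g : B ⟶ A) {x : A ⟶ Z} {y : B ⟶ Z} (h : g ≫ x = y) :
    g ≫ postIso i A x = postIso i B y := by
  subst h
  exact (Category.assoc _ _ _).symm

lemma isSubquotient_of_linear {R : Type*} [CommRing R] {Z N T : Type u} [AddCommGroup Z]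
    [Module R Z] [AddCommGroup N] [AddCommGroup T] [Module R N] [Module R T] (fψ : Z →ₗ[R] N)
    (hψ : Function.Surjective fψ) (fφ : Z →ₗ[R] T) (h : LinearMap.ker fφ ≤ LinearMap.ker fψ) :
    HTor.IsSubquotient R N T := by
  let S : Submodule R T := (LinearMap.ker fψ).map fφ
  let S' : Submodule R T := LinearMap.range fφ
  let g : Z →ₗ[R] (↥S' ⧸ Submodule.comap S'.subtype S) :=
    (Submodule.mkQ _).comp fφ.rangeRestrict
  have hg : Function.Surjective g :=
    (Submodule.mkQ_surjective _).comp fφ.surjective_rangeRestrict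
  have hker : LinearMap.ker fψ = LinearMap.ker g := by
    ext z
    refine ⟨fun hz => (Submodule.Quotient.mk_eq_zero _).2 ⟨z, hz, rfl⟩, fun hz => ?_⟩
    obtain ⟨w, hw, hwz⟩ := (Submodule.Quotient.mk_eq_zero _).1 hz
    have h0 : z - w ∈ LinearMap.ker fφ := by
      rw [LinearMap.mem_ker, map_sub]
      exact sub_eq_zero.2 hwz.symm
    have h1 := h h0
    rw [LinearMap.mem_ker, map_sub, sub_eq_zero] at h1
    exact h1.trans hw
  exact ⟨S, S', LinearMap.map_le_range, ⟨(LinearMap.quotKerEquivOfSurjective fψ hψ).symm.trans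
    ((Submodule.quotEquivOfEq _ _ hker).trans (LinearMap.quotKerEquivOfSurjective g hg))⟩⟩

variable {X : TopCat.{u}} {ι : Type u} (U : ι → Opens X)
  (P : (Opens X)ᵒᵖ ⥤ AddCommGrpCat.{u})

/-- Cech cocycles as a morphism into Mathlib's complex. -/
noncomputable def cyc (p : ℕ) :
    AddCommGrpCat.of (cochD P U p).ker ⟶ (cechCx P U).X p :=
  AddCommGrpCat.ofHom ((cochEquiv P U p).symm.toAddMonoidHom.comp (cochD P U p).ker.subtype)

lemma cyc_d (p : ℕ) : cyc U P p ≫ (cechCx P U).d p (p + 1) = 0 := by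
  refine AddCommGrpCat.hom_ext (AddMonoidHom.ext fun z => (cochEquiv P U (p + 1)).injective ?_)
  refine (cochEquiv_d P U p _).trans ?_
  change cochD P U p (cochEquiv P U p ((cochEquiv P U p).symm z.1)) = cochEquiv P U (p + 1) 0
  rw [AddEquiv.apply_symm_apply, map_zero]
  exact z.2

/-- The class of a Cech cocycle. -/
noncomputable def clH (p : ℕ) : (cochD P U p).ker →+ CohB1.cechHTop U P p :=
  ((cechCx P U).liftCycles (cyc U P p) (p + 1) (by simp) (cyc_d U P p) ≫
    (cechCx P U).homologyπ p).hom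

lemma iCycles_lift (p : ℕ) (z : (cochD P U p).ker) :
    cochEquiv P U p (((cechCx P U).iCycles p).hom
      (((cechCx P U).liftCycles (cyc U P p) (p + 1) (by simp) (cyc_d U P p)).hom z)) = z.1 := by
  refine (congrArg (cochEquiv P U p)
    (ConcreteCategory.congr_hom ((cechCx P U).liftCycles_i (cyc U P p) (p + 1) (by simp) (cyc_d U P p)) z)).trans ?_
  exact (cochEquiv P U p).apply_symm_apply _

lemma clH_zero_eq_zero (z : (cochD P U 0).ker) (h : clH U P 0 z = 0) : z.1 = 0 := by
  rw [← iCycles_lift U P 0 z]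
  have h' := (ConcreteCategory.bijective_of_isIso ((cechCx P U).homologyπ 0)).1
    (h.trans (map_zero ((cechCx P U).homologyπ 0).hom).symm)
  exact (congrArg (fun t => cochEquiv P U 0 (((cechCx P U).iCycles 0).hom t)) h').trans (by simp)

lemma clH_succ_eq_zero (k : ℕ) (z : (cochD P U (k + 1)).ker) (h : clH U P (k + 1) z = 0) :
    ∃ β, cochD P U k β = z.1 := by
  let C := cechCx P U
  obtain ⟨y, hy⟩ := (ShortComplex.ab_exact_iff _).1
    (ShortComplex.exact_of_g_is_cokernel (ShortComplex.mk (C.toCycles k (k + 1)) (C.homologyπ (k + 1))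
      (C.toCycles_comp_homologyπ _ _)) (C.homologyIsCokernel k (k + 1) (by simp))) _ h
  refine ⟨cochEquiv P U k y, ?_⟩
  rw [← cochEquiv_d, ← iCycles_lift U P (k + 1) z]
  refine congrArg (cochEquiv P U (k + 1)) ?_
  exact (ConcreteCategory.congr_hom (C.toCycles_i k (k + 1)) y).symm.trans
    (congrArg (C.iCycles (k + 1)).hom hy)

variable (I : CochainComplex (CohTop.Ab X) ℤ) [HasDerivedCategory.{u} (CohTop.Ab X)]
  {K : DerivedCategory (CohTop.Ab X)} (e : DerivedCategory.Q.obj I ≅ K)

/-- Postcomposition with an isomorphism. -/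
noncomputable def post (q : ℤ) (V : Opens X) :
    CohCx.HDU (DerivedCategory.Q.obj I) q V ≃+ CohCx.HDU K q V :=
  postIso ((shiftFunctor (DerivedCategory (CohTop.Ab X)) q).mapIso e) _

/-- Classes of cocycles, in `K`. -/
noncomputable def cl (q : ℤ) (V : Opens X) :
    ((I.d q (q + 1)).hom.app (op V)).hom.ker →+ CohCx.HDU K q V :=
  (post I e q V).toAddMonoidHom.comp (clsU I q V)

lemma cl_res (q : ℤ) {V W : Opens X} (h : W ≤ V) (s : ((I.d q (q + 1)).hom.app (op V)).hom.ker)
    (t : ((I.d q (q + 1)).hom.app (op W)).hom.ker)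
    (ht : t.1 = rs (I.X q).obj h s.1) :
    CohCx.HDUres K q (homOfLE h) (cl I e q V s) = cl I e q W t := by
  have h1 := Groth.Agent.Rlim44.scls_res I (homOfLE h) s.1 s.2
  have h2 : CohCx.HDUres (DerivedCategory.Q.obj I) q (homOfLE h) (clsU I q V s) = clsU I q W t := by
    obtain ⟨t, hz⟩ := t
    change t = _ at ht
    subst ht
    exact h1
  exact postIso_precomp _ _ h2

lemma cl_eq_zero_iff [I.IsKInjective] (q : ℤ) (V : Opens X)
    (s : ((I.d q (q + 1)).hom.app (op V)).hom.ker) :
    cl I e q V s = 0 ↔ ∃ b, ((I.d (q - 1) q).hom.app (op V)).hom b = s.1 := by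
  refine Iff.trans ?_ (Groth.Agent.Rlim44.scls_eq_zero_iff I s.1 s.2)
  exact (map_eq_zero_iff (post I e q V) (post I e q V).injective)

lemma cl_surjective [I.IsKInjective] (q : ℤ) (V : Opens X) : Function.Surjective (cl I e q V) :=
  (post I e q V).surjective.comp (clsU_surjective I q V)

/-- Cochains of cocycles. -/
noncomputable def cocSub (q : ℤ) (p : ℕ) : AddSubgroup (Coch (I.X q).obj U p) :=
  (cochMap U (I.d q (q + 1)).hom p).ker

lemma coc_mem {q : ℤ} {p : ℕ} (z : cocSub U I q p) (b : Fin (p + 1) → ι) :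
    z.1 b ∈ ((I.d q (q + 1)).hom.app (op (inter U b))).hom.ker :=
  congrFun (show cochMap U (I.d q (q + 1)).hom p z.1 = 0 from z.2) b

/-- `HDU` is the value of the presheaf `HDUPresheaf`. -/
noncomputable def toP (K : DerivedCategory (CohTop.Ab X)) (q : ℤ) (V : Opens X) :
    CohCx.HDU K q V →+ (CohCx.HDUPresheaf K q).obj (op V) where
  toFun x := x
  map_zero' := rfl
  map_add' _ _ := rfl

/-- Cochains of cocycles give cochains of classes. -/
noncomputable def clC (q : ℤ) (p : ℕ) :
    cocSub U I q p →+ Coch (CohCx.HDUPresheaf K q) U p :=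
  AddMonoidHom.pi fun b => (toP K q (inter U b)).comp ((cl I e q (inter U b)).comp
    (AddMonoidHom.mk' (fun z : cocSub U I q p =>
      (⟨z.1 b, coc_mem U I z b⟩ : ((I.d q (q + 1)).hom.app (op (inter U b))).hom.ker))
      (fun _ _ => rfl)))

lemma cochD_mem_cocSub (q : ℤ) (p : ℕ) (z : cocSub U I q p) :
    cochD (I.X q).obj U p z.1 ∈ cocSub U I q (p + 1) := by
  change cochMap U (I.d q (q + 1)).hom (p + 1) _ = 0
  rw [← cochD_cochMap, show cochMap U (I.d q (q + 1)).hom p z.1 = 0 from z.2, map_zero]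

lemma cochD_clC (q : ℤ) (p : ℕ) (z : cocSub U I q p) :
    cochD (CohCx.HDUPresheaf K q) U p (clC U I e q p z) =
      clC U I e q (p + 1) ⟨_, cochD_mem_cocSub U I q p z⟩ := by
  funext b
  have hr : ∀ j : Fin (p + 2),
      rs (I.X q).obj (inter_comp_le U b j.succAbove) (z.1 (b ∘ j.succAbove)) ∈
        ((I.d q (q + 1)).hom.app (op (inter U b))).hom.ker := fun j => by
    rw [AddMonoidHom.mem_ker]
    refine (ConcreteCategory.congr_hom
      ((I.d q (q + 1)).hom.naturality (homOfLE (inter_comp_le U b j.succAbove)).op) _).trans ?_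
    exact (congrArg (rs (I.X (q + 1)).obj (inter_comp_le U b j.succAbove)) (coc_mem U I z (b ∘ j.succAbove))).trans (map_zero _)
  have hsum : (⟨cochD (I.X q).obj U p z.1 b, coc_mem U I ⟨_, cochD_mem_cocSub U I q p z⟩ b⟩ :
      ((I.d q (q + 1)).hom.app (op (inter U b))).hom.ker) =
      ∑ j : Fin (p + 2), (-1 : ℤ) ^ (j : ℕ) • ⟨_, hr j⟩ := by
    refine Subtype.ext ?_
    simp only [AddSubgroup.val_finsetSum, AddSubgroup.coe_zsmul]
    rfl
  change cochD (CohCx.HDUPresheaf K q) U p (clC U I e q p z) b = toP K q (inter U b)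
    (cl I e q (inter U b) ⟨cochD (I.X q).obj U p z.1 b, coc_mem U I ⟨_, cochD_mem_cocSub U I q p z⟩ b⟩)
  rw [hsum, map_sum, map_sum, cochD_apply]
  refine Finset.sum_congr rfl fun j _ => ?_
  rw [map_zsmul, map_zsmul]
  exact congrArg _ (cl_res I e q (inter_comp_le U b j.succAbove)
    ⟨z.1 (b ∘ j.succAbove), coc_mem U I z _⟩ ⟨_, hr j⟩ rfl)

end CTot49
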