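import Mathlib.Algebra.Category.Grp.Basic
import Mathlib.Algebra.Category.Grp.Abelian
import Mathlib.Algebra.Homology.HomologicalComplex
import Mathlib.GroupTheory.QuotientGroup.Basic

/-!
Right half-plane double complexes of abelian groups, indexed by column and total degree,
with finitely many columns in each total degree.
-/

set_option autoImplicit false
universe u

open CategoryTheory

namespace CTot49

/-- A double complex indexed by column `p` and total degree `n`; `v` is the vertical and `h` the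
horizontal differential (both meaningful for `n + 1 = m`). -/
structure DC where
  Φ : ℕ → ℤ → Type u
  [inst : ∀ p n, AddCommGroup (Φ p n)]
  v : ∀ p n m, Φ p n →+ Φ p m
  h : ∀ p n m, Φ p n →+ Φ (p + 1) m
  vv : ∀ p n m k, n + 1 = m → m + 1 = k → ∀ x, v p m k (v p n m x) = 0
  hh : ∀ p n m k, n + 1 = m → m + 1 = k → ∀ x, h (p + 1) m k (h p n m x) = 0
  hv : ∀ p n m k, n + 1 = m → m + 1 = k → ∀ x, h p m k (v p n m x) + v (p + 1) m k (h p n m x) = 0
  bound : ℤ
  sub : ∀ (p : ℕ) (n : ℤ), n < bound + (p : ℤ) → Subsingleton (Φ p n)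

attribute [instance] DC.inst

namespace DC

variable (M : DC.{u})

/-- Families: elements of the total complex. -/
abbrev Fam (n : ℤ) : Type u := ∀ p, M.Φ p n

/-- The total differential. -/
def D (n m : ℤ) : M.Fam n →+ M.Fam m :=
  AddMonoidHom.mk' (fun x p => match p with
    | 0 => M.v 0 n m (x 0)
    | p + 1 => M.v (p + 1) n m (x (p + 1)) + M.h p n m (x p)) (fun x y => funext fun p => by
      cases p with
      | zero => exact map_add _ _ _
      | succ p =>
        change _ = (M.v _ _ _ _ + M.h _ _ _ _) + (M.v _ _ _ _ + M.h _ _ _ _)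
        simp only [Pi.add_apply, map_add]
        abel)

lemma D_zero (n m : ℤ) (x : M.Fam n) : M.D n m x 0 = M.v 0 n m (x 0) := rfl

lemma D_succ (n m : ℤ) (x : M.Fam n) (p : ℕ) :
    M.D n m x (p + 1) = M.v (p + 1) n m (x (p + 1)) + M.h p n m (x p) := rfl

lemma D_D {n m k : ℤ} (e : n + 1 = m) (e' : m + 1 = k) (x : M.Fam n) :
    M.D m k (M.D n m x) = 0 := by
  funext p
  match p with
  | 0 => exact M.vv 0 n m k e e' _
  | 1 =>
    change M.v 1 m k (M.v 1 n m (x 1) + M.h 0 n m (x 0)) + M.h 0 m k (M.v 0 n m (x 0)) = 0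
    rw [map_add, M.vv 1 n m k e e']
    refine (congrArg (· + _) (zero_add _)).trans ?_
    exact (add_comm _ _).trans (M.hv 0 n m k e e' _)
  | p + 2 =>
    change M.v (p + 2) m k (M.v (p + 2) n m (x (p + 2)) + M.h (p + 1) n m (x (p + 1))) +
      M.h (p + 1) m k (M.v (p + 1) n m (x (p + 1)) + M.h p n m (x p)) = 0
    rw [map_add, map_add, M.vv _ n m k e e', M.hh _ n m k e e']
    refine (congrArg₂ (· + ·) (zero_add _) (add_zero _)).trans ?_
    exact (add_comm _ _).trans (M.hv _ n m k e e' _)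

/-- Vanishing in the columns before `p`. -/
def Supp {n : ℤ} (p : ℕ) (x : M.Fam n) : Prop := ∀ j, j < p → x j = 0

lemma supp_zero {n : ℤ} (x : M.Fam n) : M.Supp 0 x := fun _ h => absurd h (by omega)

lemma supp_of_eq {n : ℤ} {p : ℕ} (x : M.Fam n) (hx : M.Supp p x) (h0 : x p = 0) :
    M.Supp (p + 1) x := fun j hj => by
  rcases Nat.lt_succ_iff_lt_or_eq.1 hj with h | rfl
  exacts [hx j h, h0]

lemma Supp.mono {M : DC.{u}} {n : ℤ} {p q : ℕ} {x : M.Fam n} (hx : M.Supp q x) (h : p ≤ q) :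
    M.Supp p x := fun j hj => hx j (lt_of_lt_of_le hj h)

lemma Supp.add {M : DC.{u}} {n : ℤ} {p : ℕ} {x y : M.Fam n} (hx : M.Supp p x) (hy : M.Supp p y) :
    M.Supp p (x + y) := fun j hj => by rw [Pi.add_apply, hx j hj, hy j hj, add_zero]

lemma Supp.sub {M : DC.{u}} {n : ℤ} {p : ℕ} {x y : M.Fam n} (hx : M.Supp p x) (hy : M.Supp p y) :
    M.Supp p (x - y) := fun j hj => by rw [Pi.sub_apply, hx j hj, hy j hj, sub_zero]

lemma Supp.neg {M : DC.{u}} {n : ℤ} {p : ℕ} {x : M.Fam n} (hx : M.Supp p x) :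
    M.Supp p (-x) := fun j hj => by rw [Pi.neg_apply, hx j hj, neg_zero]

lemma eq_zero_of_supp {n : ℤ} {p : ℕ} (x : M.Fam n) (hx : M.Supp p x) (hp : n < M.bound + p) :
    x = 0 := by
  funext j
  by_cases hj : j < p
  · exact hx j hj
  · exact @Subsingleton.elim _ (M.sub j n (by omega)) _ _

lemma eq_zero_of_top {n : ℤ} (x : M.Fam n) {j : ℕ} (hj : n < M.bound + j) : x j = 0 :=
  @Subsingleton.elim _ (M.sub j n hj) _ _

/-- A family concentrated in one column. -/
noncomputable def single (n : ℤ) (p : ℕ) : M.Φ p n →+ M.Fam n where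
  toFun := Pi.single (M := fun j => M.Φ j n) p
  map_zero' := Pi.single_zero (M := fun j => M.Φ j n) p
  map_add' := Pi.single_add (f := fun j => M.Φ j n) p

lemma single_same (n : ℤ) (p : ℕ) (c : M.Φ p n) : M.single n p c p = c := Pi.single_eq_same (M := fun j => M.Φ j n) p c

lemma single_ne (n : ℤ) {p j : ℕ} (c : M.Φ p n) (h : j ≠ p) : M.single n p c j = 0 :=
  Pi.single_eq_of_ne (M := fun j => M.Φ j n) h c

lemma supp_single (n : ℤ) (p : ℕ) (c : M.Φ p n) : M.Supp p (M.single n p c) :=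
  fun _ hj => M.single_ne n c (by omega)

lemma Supp.D {M : DC.{u}} {n : ℤ} (m : ℤ) {p : ℕ} {x : M.Fam n} (hx : M.Supp p x) :
    M.Supp p (M.D n m x) := fun j hj => by
  match j with
  | 0 => rw [D_zero, hx 0 hj, map_zero]
  | j + 1 => rw [D_succ, hx _ hj, hx j (by omega), map_zero, map_zero, add_zero]

lemma D_leading {n : ℤ} (m : ℤ) {p : ℕ} {x : M.Fam n} (hx : M.Supp p x) :
    M.D n m x p = M.v p n m (x p) := by
  match p with
  | 0 => rfl
  | p + 1 => rw [D_succ, hx p (by omega), map_zero, add_zero]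

lemma D_single_same (n m : ℤ) (p : ℕ) (c : M.Φ p n) :
    M.D n m (M.single n p c) p = M.v p n m c := by
  rw [M.D_leading m (M.supp_single n p c), single_same]

lemma D_single_succ (n m : ℤ) (p : ℕ) (c : M.Φ p n) :
    M.D n m (M.single n p c) (p + 1) = M.h p n m c := by
  rw [D_succ, single_same, M.single_ne n c (by omega), map_zero, zero_add]

lemma D_single_gt (n m : ℤ) (p : ℕ) (c : M.Φ p n) {j : ℕ} (hj : p + 1 < j) :
    M.D n m (M.single n p c) j = 0 := by
  obtain ⟨i, rfl⟩ : ∃ i, j = i + 1 := ⟨j - 1, by omega⟩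
  rw [D_succ, M.single_ne n c (by omega), M.single_ne n c (by omega), map_zero, map_zero, add_zero]

/-- Horizontal exactness in positive columns gives descent to column zero. -/
lemma exists_descend (hrow : ∀ p n (m : ℤ), n + 1 = m → ∀ k : ℤ, m + 1 = k →
      ∀ c : M.Φ (p + 1) m, M.h (p + 1) m k c = 0 → ∃ b : M.Φ p n, M.h p n m b = c)
    {n m k : ℤ} (e : n + 1 = m) (e' : m + 1 = k) (x : M.Fam m)
    (hx : ∀ j, M.D m k x (j + 1) = 0) :
    ∃ w : M.Fam n, (∀ j, (x - M.D n m w) (j + 1) = 0) ∧ M.h 0 m k ((x - M.D n m w) 0) = 0 := by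
  suffices H : ∀ (q : ℕ) (x : M.Fam m), (∀ j, M.D m k x (j + 1) = 0) → (∀ j, q < j → x j = 0) →
      ∃ w : M.Fam n, ∀ j, (x - M.D n m w) (j + 1) = 0 by
    obtain ⟨w, hw⟩ := H (m - M.bound).toNat x hx (fun j hj => M.eq_zero_of_top x (by omega))
    refine ⟨w, hw, ?_⟩
    have h1 : M.D m k (x - M.D n m w) (0 + 1) = 0 := by
      rw [map_sub, M.D_D e e', sub_zero]
      exact hx 0
    rw [D_succ, hw, map_zero] at h1
    exact (zero_add _).symm.trans h1
  intro q
  induction q with
  | zero => exact fun x _ hq => ⟨0, fun j => by rw [map_zero, sub_zero]; exact hq _ (by omega)⟩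
  | succ q ih =>
    intro x hx hq
    have h1 : M.h (q + 1) m k (x (q + 1)) = 0 := by
      have := hx (q + 1)
      rwa [D_succ, hq (q + 1 + 1) (by omega), map_zero, zero_add] at this
    obtain ⟨b, hb⟩ := hrow q n m e k e' _ h1
    obtain ⟨w, hw⟩ := ih (x - M.D n m (M.single n q b))
      (fun j => by rw [map_sub, M.D_D e e', sub_zero]; exact hx j)
      (fun j hj => by
        rcases Nat.lt_or_ge (q + 1) j with h | h
        · rw [Pi.sub_apply, hq j h, M.D_single_gt n m q b h, sub_zero]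
        · obtain rfl : j = q + 1 := by omega
          rw [Pi.sub_apply, M.D_single_succ, hb, sub_self])
    refine ⟨M.single n q b + w, fun j => ?_⟩
    rw [map_add, sub_add_eq_sub_sub]
    exact hw j

/-- Cycles of the total complex. -/
def Z (n : ℤ) : AddSubgroup (M.Fam n) := (M.D n (n + 1)).ker

/-- Boundaries, inside cycles. -/
def B (n : ℤ) : AddSubgroup (M.Z n) := (M.D (n - 1) n).range.comap (M.Z n).subtype

/-- Cohomology of the total complex. -/
abbrev H (n : ℤ) : Type u := M.Z n ⧸ M.B n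

lemma mem_B {n : ℤ} (y : M.Z n) : y ∈ M.B n ↔ ∃ x, M.D (n - 1) n x = y.1 := Iff.rfl

/-- The total complex. -/
def cx : CochainComplex AddCommGrpCat.{u} ℤ where
  X n := AddCommGrpCat.of (M.Fam n)
  d n m := if n + 1 = m then AddCommGrpCat.ofHom (M.D n m) else 0
  shape n m h := if_neg h
  d_comp_d' n m k (h : n + 1 = m) (h' : m + 1 = k) := by
    rw [if_pos h, if_pos h']
    refine AddCommGrpCat.hom_ext (AddMonoidHom.ext fun x => ?_)
    exact M.D_D h h' x

lemma cx_d (n m : ℤ) (h : n + 1 = m) (x : M.Fam n) : (M.cx.d n m).hom x = M.D n m x := by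
  change (if n + 1 = m then AddCommGrpCat.ofHom (M.D n m) else 0 : _ ⟶ _).hom x = _
  rw [if_pos h]
  rfl

end DC

/-- A morphism of double complexes. -/
structure DCHom (M N : DC.{u}) where
  f : ∀ p n, M.Φ p n →+ N.Φ p n
  comm_v : ∀ p n m, n + 1 = m → ∀ x, f p m (M.v p n m x) = N.v p n m (f p n x)
  comm_h : ∀ p n m, n + 1 = m → ∀ x, f (p + 1) m (M.h p n m x) = N.h p n m (f p n x)
  bound_eq : M.bound = N.bound

namespace DCHom

variable {M N : DC.{u}} (φ : DCHom M N)

/-- The map on families. -/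
def F (n : ℤ) : M.Fam n →+ N.Fam n :=
  AddMonoidHom.mk' (fun x p => φ.f p n (x p)) (fun _ _ => funext fun _ => map_add _ _ _)

lemma F_apply (n : ℤ) (x : M.Fam n) (p : ℕ) : φ.F n x p = φ.f p n (x p) := rfl

lemma F_D {n m : ℤ} (e : n + 1 = m) (x : M.Fam n) : φ.F m (M.D n m x) = N.D n m (φ.F n x) := by
  funext p
  match p with
  | 0 => exact φ.comm_v 0 n m e _
  | p + 1 =>
    change φ.f (p + 1) m (M.v _ n m _ + M.h p n m _) = _
    rw [map_add, φ.comm_v _ n m e, φ.comm_h p n m e]
    rfl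

lemma F_single (n : ℤ) (p : ℕ) (c : M.Φ p n) :
    φ.F n (M.single n p c) = N.single n p (φ.f p n c) := by
  funext j
  by_cases h : j = p
  · subst h; rw [F_apply, M.single_same, N.single_same]
  · rw [F_apply, M.single_ne n c h, N.single_ne n _ h, map_zero]

lemma supp_F {n : ℤ} {p : ℕ} {x : M.Fam n} (hx : M.Supp p x) : N.Supp p (φ.F n x) :=
  fun j hj => by rw [F_apply, hx j hj, map_zero]

/-- Columnwise quasi-isomorphism. -/
structure IsColQIso : Prop where
  inj : ∀ p n m k, n + 1 = m → m + 1 = k → ∀ (c : M.Φ p m) (e : N.Φ p n),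
    M.v p m k c = 0 → φ.f p m c = N.v p n m e → ∃ x, M.v p n m x = c
  surj : ∀ p n m k, n + 1 = m → m + 1 = k → ∀ z : N.Φ p m, N.v p m k z = 0 →
    ∃ c e, M.v p m k c = 0 ∧ z = φ.f p m c + N.v p n m e

variable {φ} (hφ : φ.IsColQIso)

include hφ in
lemma inj_aux : ∀ (r : ℕ) (p : ℕ) (l n m k : ℤ), m < M.bound + p + r →
    l + 1 = n → n + 1 = m → m + 1 = k →
    ∀ (y : M.Fam m) (z : N.Fam n), M.Supp p y → N.Supp p z → M.D m k y = 0 →
      φ.F m y = N.D n m z → ∃ x, M.Supp p x ∧ M.D n m x = y := by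
  intro r
  induction r with
  | zero =>
    intro p l n m k hb hl hn hm y z hy _ _ _
    refine ⟨0, fun _ _ => rfl, ?_⟩
    rw [map_zero, M.eq_zero_of_supp y hy (by simpa using hb)]
  | succ r ih =>
    intro p l n m k hb hl hn hm y z hy hz hyc hyz
    have h1 : M.v p m k (y p) = 0 := by rw [← M.D_leading k hy, hyc]; rfl
    have h2 : φ.f p m (y p) = N.v p n m (z p) := by
      rw [← N.D_leading m hz, ← hyz]; rfl
    obtain ⟨x0, hx0⟩ := hφ.inj p n m k hn hm _ _ h1 h2
    obtain ⟨c, e, hc, hce⟩ := hφ.surj p l n m hl hn (z p - φ.f p n x0) (by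
      rw [map_sub, ← φ.comm_v p n m hn, hx0, ← h2, sub_self])
    let x1 := x0 + c
    have hx1 : M.v p n m x1 = y p := by rw [map_add, hx0, hc, add_zero]
    let y' := y - M.D n m (M.single n p x1)
    let z' := z - N.single n p (φ.f p n x1) - N.D l n (N.single l p e)
    have hy' : M.Supp (p + 1) y' := M.supp_of_eq _ (hy.sub ((M.supp_single n p x1).D m)) (by
      show (y - M.D n m (M.single n p x1)) p = 0
      rw [Pi.sub_apply, M.D_single_same, hx1, sub_self])
    have hz' : N.Supp (p + 1) z' := N.supp_of_eq _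
      ((hz.sub (N.supp_single n p _)).sub ((N.supp_single l p e).D n)) (by
        show (z - N.single n p (φ.f p n x1) - N.D l n (N.single l p e)) p = 0
        rw [Pi.sub_apply, Pi.sub_apply, N.single_same, N.D_single_same, sub_sub,
          show φ.f p n x1 + N.v p l n e = φ.f p n x0 + (φ.f p n c + N.v p l n e) by
            rw [map_add]; abel,
          ← hce, add_sub_cancel, sub_self])
    obtain ⟨x, hx, hxy⟩ := ih (p + 1) l n m k (by push_cast at hb ⊢; omega) hl hn hm y' z' hy' hz'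
      (by rw [map_sub, hyc, M.D_D hn hm, sub_zero])
      (by rw [map_sub, φ.F_D hn, φ.F_single, map_sub, map_sub, N.D_D hl hn, sub_zero, hyz])
    refine ⟨x + M.single n p x1, (hx.mono p.le_succ).add (M.supp_single n p x1), ?_⟩
    rw [map_add, hxy, sub_add_cancel]

include hφ in
lemma surj_aux : ∀ (r : ℕ) (p : ℕ) (n m k : ℤ), m < M.bound + p + r → n + 1 = m → m + 1 = k →
    ∀ z : N.Fam m, N.Supp p z → N.D m k z = 0 →
      ∃ (y : M.Fam m) (e : N.Fam n), M.Supp p y ∧ M.D m k y = 0 ∧ z = φ.F m y + N.D n m e := by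
  intro r
  induction r with
  | zero =>
    intro p n m k hb hn hm z hz _
    refine ⟨0, 0, fun _ _ => rfl, map_zero _, ?_⟩
    rw [map_zero, map_zero, add_zero, N.eq_zero_of_supp z hz (by rw [← φ.bound_eq]; simpa using hb)]
  | succ r ih =>
    intro p n m k hb hn hm z hz hzc
    obtain ⟨c, e, hc, hce⟩ := hφ.surj p n m k hn hm (z p) (by rw [← N.D_leading k hz, hzc]; rfl)
    let w := M.D m k (M.single m p c)
    have hw : M.Supp (p + 1) w := M.supp_of_eq _ ((M.supp_single m p c).D k) (by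
      show M.D m k (M.single m p c) p = 0
      rw [M.D_single_same, hc])
    let s := z - N.single m p (φ.f p m c) - N.D n m (N.single n p e)
    have hs : N.Supp (p + 1) s := N.supp_of_eq _
      ((hz.sub (N.supp_single m p _)).sub ((N.supp_single n p e).D m)) (by
        show (z - N.single m p (φ.f p m c) - N.D n m (N.single n p e)) p = 0
        rw [Pi.sub_apply, Pi.sub_apply, N.single_same, N.D_single_same, sub_sub, ← hce, sub_self])
    obtain ⟨x, hx, hxw⟩ := inj_aux hφ (r + 1) (p + 1) n m k (k + 1)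
      (by push_cast at hb ⊢; omega) hn hm rfl w (-s) hw hs.neg (M.D_D hm rfl _) (by
        rw [φ.F_D hm, φ.F_single, map_neg, map_sub, map_sub, hzc, N.D_D hn hm, sub_zero,
          zero_sub, neg_neg])
    let y0 := M.single m p c - x
    obtain ⟨y1, e1, hy1, hy1c, hy1e⟩ := ih (p + 1) n m k (by push_cast at hb ⊢; omega) hn hm
      (s + φ.F m x) (hs.add (φ.supp_F hx)) (by
        rw [map_add, ← φ.F_D hm, hxw, map_sub, map_sub, hzc, N.D_D hn hm, φ.F_D hm, φ.F_single]
        abel)
    refine ⟨y0 + y1, N.single n p e + e1,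
      ((M.supp_single m p c).sub (hx.mono p.le_succ)).add (hy1.mono p.le_succ), ?_, ?_⟩
    · rw [map_add, map_sub, hxw, hy1c, add_zero, sub_self]
    · rw [map_add, map_add, map_sub, φ.F_single]
      have := hy1e
      simp only [s] at this
      rw [← sub_eq_zero] at this ⊢
      refine Eq.trans ?_ this

      abel

/-- The map on cohomology. -/
def onH (φ : DCHom M N) (n : ℤ) : M.H n →+ N.H n :=
  QuotientAddGroup.map _ _
    (((φ.F n).comp (M.Z n).subtype).codRestrict (N.Z n) fun y => by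
      change N.D n (n + 1) (φ.F n y.1) = 0
      rw [← φ.F_D rfl, (y.2 : M.D n (n + 1) y.1 = 0), map_zero])
    (by
      rintro y ⟨x, hx⟩
      refine ⟨φ.F (n - 1) x, ?_⟩
      change _ = φ.F n y.1
      rw [← φ.F_D (by omega)]
      exact congrArg (φ.F n) hx)

include hφ in
/-- A columnwise quasi-isomorphism is bijective on cohomology. -/
theorem onH_bijective (n : ℤ) : Function.Bijective (φ.onH n) := by
  refine ⟨(injective_iff_map_eq_zero _).2 fun q hq => ?_, fun q => ?_⟩
  · obtain ⟨y, rfl⟩ := QuotientAddGroup.mk_surjective q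
    obtain ⟨z, hz⟩ : ∃ z, N.D (n - 1) n z = φ.F n y.1 := (QuotientAddGroup.eq_zero_iff _).1 hq
    obtain ⟨x, -, hx⟩ := inj_aux hφ ((n - M.bound).toNat + 1) 0 (n - 2) (n - 1) n (n + 1)
      (by push_cast; omega) (by omega) (by omega) rfl y.1 z (M.supp_zero _) (N.supp_zero _) y.2
      hz.symm
    exact (QuotientAddGroup.eq_zero_iff _).2 ⟨x, hx⟩
  · obtain ⟨z, rfl⟩ := QuotientAddGroup.mk_surjective q
    obtain ⟨y, e, -, hy, hye⟩ := surj_aux hφ ((n - M.bound).toNat + 1) 0 (n - 1) n (n + 1)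
      (by push_cast; omega) (by omega) rfl z.1 (N.supp_zero _) z.2
    refine ⟨QuotientAddGroup.mk ⟨y, hy⟩, ?_⟩
    refine (QuotientAddGroup.eq).2 ⟨e, ?_⟩
    change _ = -(φ.F n y) + z.1
    rw [hye]; abel

end DCHom

end CTot49
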