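import Groth.Prelude.Def_CechTot
import Groth.Agent.CTot49.Classes
import Groth.Agent.Desc45.Abstract

/-! The Cech filtration on hypercohomology. -/

set_option autoImplicit false
universe u

open CategoryTheory CategoryTheory.Limits Opposite TopologicalSpace Groth.Agent.TopCoh49

namespace CTot49

variable {X : TopCat.{u}} {ι : Type u} (U : ι → Opens X)
  (I : CochainComplex (CohTop.Ab X) ℤ) (a : ℤ) (ha : ∀ i : ℤ, i < a → IsZero (I.X i))

/-- Cycles supported in the columns from `p` on. -/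
def DC.FZ (M : DC.{u}) (n : ℤ) (p : ℕ) : AddSubgroup (M.Z n) where
  carrier := {y | M.Supp p y.1}
  zero_mem' := fun _ _ => rfl
  add_mem' := fun ha hb => DC.Supp.add ha hb
  neg_mem' := fun ha => DC.Supp.neg ha

lemma DC.eq_mk_of_sub_mem (M : DC.{u}) {n : ℤ} (y y' : M.Z n) (w : M.Fam (n - 1))
    (h : M.D (n - 1) n w = y.1 - y'.1) :
    (QuotientAddGroup.mk y : M.H n) = QuotientAddGroup.mk y' := by
  rw [QuotientAddGroup.eq_iff_sub_mem, DC.mem_B]
  exact ⟨w, h⟩

/-- The column `p` component of a filtered cycle consists of cocycles. -/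
lemma leading_mem (n : ℤ) (p : ℕ) (y : (dc U I a ha).FZ n p) :
    y.1.1 p ∈ cocSub U I (n - (p : ℤ)) p := by
  have h := (dc U I a ha).D_leading (n + 1) (show (dc U I a ha).Supp p y.1.1 from y.2)
  rw [show (dc U I a ha).D n (n + 1) y.1.1 = 0 from y.1.2] at h
  change cochMap U (I.d (n - (p : ℤ)) (n - (p : ℤ) + 1)).hom p (y.1.1 p) = 0
  rw [← d_cst I (show n + 1 - (p : ℤ) = n - (p : ℤ) + 1 by omega), ← cochMap_comp,
    show cochMap U (I.d (n - (p : ℤ)) (n + 1 - (p : ℤ))).hom p (y.1.1 p) = 0 from h.symm, map_zero]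

variable [HasDerivedCategory.{u} (CohTop.Ab X)]
  {K : DerivedCategory (CohTop.Ab X)} (e : DerivedCategory.Q.obj I ≅ K)

/-- The leading class of a filtered cycle. -/
noncomputable def leadC (n : ℤ) (p : ℕ) :
    (dc U I a ha).FZ n p →+ Coch (CohCx.HDUPresheaf K (n - (p : ℤ))) U p :=
  (clC U I e (n - (p : ℤ)) p).comp
    (AddMonoidHom.mk' (fun y => (⟨y.1.1 p, leading_mem U I a ha n p y⟩ : cocSub U I (n - (p : ℤ)) p))
      (fun _ _ => rfl))

lemma leadC_apply (n : ℤ) (p : ℕ) (y : (dc U I a ha).FZ n p) (b : Fin (p + 1) → ι) :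
    leadC U I a ha e n p y b = toP K (n - (p : ℤ)) (inter U b) (cl I e (n - (p : ℤ)) (inter U b)
      ⟨y.1.1 p b, coc_mem U I ⟨_, leading_mem U I a ha n p y⟩ b⟩) := rfl

variable [I.IsKInjective]

lemma cochD_leadC (n : ℤ) (p : ℕ) (y : (dc U I a ha).FZ n p) :
    cochD (CohCx.HDUPresheaf K (n - (p : ℤ))) U p (leadC U I a ha e n p y) = 0 := by
  refine (cochD_clC U I e (n - (p : ℤ)) p ⟨y.1.1 p, leading_mem U I a ha n p y⟩).trans ?_
  funext b
  change toP K _ (inter U b) (cl I e (n - (p : ℤ)) (inter U b) _) = toP K _ (inter U b) 0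
  refine congrArg _ ((cl_eq_zero_iff I e _ _ _).2 ?_)
  let q := n - (p : ℤ)
  let ε : ℤ := ((q.negOnePow : ℤˣ) : ℤ)
  have hD : cv U I (p + 1) n (n + 1) (y.1.1 (p + 1)) +
      ε • cochMap U (cst I q (n + 1 - ((p + 1 : ℕ) : ℤ))).hom (p + 1)
        (cochD (I.X q).obj U p (y.1.1 p)) = 0 :=
    congrFun (y.1.2 : (dc U I a ha).D n (n + 1) y.1.1 = 0) (p + 1)
  have h2 := congrArg (fun t => (-ε) • cochMap U (cst I (n + 1 - ((p + 1 : ℕ) : ℤ)) q).hom (p + 1) t) hD
  simp only [map_add, map_zsmul, map_zero, smul_zero, cochMap_cst_inv U I (show q = n + 1 - ((p + 1 : ℕ) : ℤ) by push_cast; omega)] at h2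
  rw [cv, cochMap_comp, d_cst I (show n + 1 - ((p + 1 : ℕ) : ℤ) = q by push_cast; omega),
    smul_add, smul_smul, neg_mul, ← Units.val_mul, Int.units_mul_self, Units.val_one] at h2
  simp only [neg_smul, one_smul] at h2
  rw [← sub_eq_add_neg, sub_eq_zero] at h2
  refine ⟨(-ε) • cochMap U (cst I (n - ((p + 1 : ℕ) : ℤ)) (q - 1)).hom (p + 1) (y.1.1 (p + 1)) b, ?_⟩
  change _ = cochD (I.X q).obj U p (y.1.1 p) b
  rw [map_zsmul, ← h2, neg_smul]
  change -(ε • cochMap U (I.d (q - 1) q).hom (p + 1) (cochMap U _ (p + 1) (y.1.1 (p + 1))) b) = _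
  rw [cochMap_comp, cst_d I (show n - ((p + 1 : ℕ) : ℤ) = q - 1 by push_cast; omega)]
  rfl

/-- The map to Cech cohomology of the hypercohomology presheaf. -/
noncomputable def lead (n : ℤ) (p : ℕ) :
    (dc U I a ha).FZ n p →+ CohB1.cechHTop U (CohCx.HDUPresheaf K (n - (p : ℤ))) p :=
  (clH U _ p).comp ((leadC U I a ha e n p).codRestrict _ (cochD_leadC U I a ha e n p))

lemma cls_mem_of_lead_eq_zero (n : ℤ) (p : ℕ) (y : (dc U I a ha).FZ n p)
    (h : lead U I a ha e n p y = 0) :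
    ∃ y' : (dc U I a ha).FZ n (p + 1),
      (QuotientAddGroup.mk y.1 : (dc U I a ha).H n) = QuotientAddGroup.mk y'.1 := by
  let M := dc U I a ha
  suffices H : ∃ w : M.Fam (n - 1), M.Supp p (M.D (n - 1) n w) ∧ M.D (n - 1) n w p = y.1.1 p by
    obtain ⟨w, hw, hwp⟩ := H
    have hc : y.1.1 - M.D (n - 1) n w ∈ M.Z n := by
      change M.D n (n + 1) _ = 0
      rw [map_sub, M.D_D (by omega) rfl, sub_zero]
      exact y.1.2
    refine ⟨⟨⟨_, hc⟩, M.supp_of_eq _ (DC.Supp.sub (M := M) y.2 hw) ?_⟩, ?_⟩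
    · change y.1.1 p - M.D (n - 1) n w p = 0
      rw [hwp, sub_self]
    · exact M.eq_mk_of_sub_mem _ _ w (by simp)
  cases p with
  | zero =>
    have h0 := clH_zero_eq_zero U _ _ h
    have H : ∀ b : Fin 1 → ι, ∃ x : (I.X (n - ((0 : ℕ) : ℤ) - 1)).obj.obj (op (inter U b)),
        ((I.d (n - ((0 : ℕ) : ℤ) - 1) (n - ((0 : ℕ) : ℤ))).hom.app (op (inter U b))).hom x = y.1.1 0 b :=
      fun b => (cl_eq_zero_iff I e _ _ _).1 (congrFun h0 b)
    choose x hx using H
    refine ⟨M.single (n - 1) 0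
      (cochMap U (cst I (n - ((0 : ℕ) : ℤ) - 1) (n - 1 - ((0 : ℕ) : ℤ))).hom 0 x), M.supp_zero _, ?_⟩
    rw [M.D_single_same]
    change cochMap U (I.d _ _).hom 0 (cochMap U (cst I _ _).hom 0 x) = _
    rw [cochMap_comp, cst_d I (by simp)]
    exact funext hx
  | succ k =>
    obtain ⟨β, hβ⟩ := clH_succ_eq_zero U _ k _ h
    let q := n - ((k + 1 : ℕ) : ℤ)
    have Hβ : ∀ c : Fin (k + 1) → ι, ∃ z, cl I e q (inter U c) z = β c :=
      fun c => cl_surjective I e q (inter U c) (β c)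
    choose z hz using Hβ
    let xz : cocSub U I q k := ⟨fun c => (z c).1, funext fun c => (z c).2⟩
    have hxβ : clC U I e q k xz = β := funext fun c => hz c
    let d' : cocSub U I q (k + 1) :=
      ⟨y.1.1 (k + 1), leading_mem U I a ha n (k + 1) y⟩ - ⟨_, cochD_mem_cocSub U I q k xz⟩
    have hd0 : clC U I e q (k + 1) d' = 0 := by
      rw [map_sub, ← cochD_clC, hxβ, hβ, sub_eq_zero]
      rfl
    have H : ∀ b, ∃ x : (I.X (q - 1)).obj.obj (op (inter U b)),
        ((I.d (q - 1) q).hom.app (op (inter U b))).hom x = d'.1 b :=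
      fun b => (cl_eq_zero_iff I e _ _ _).1 (congrFun hd0 b)
    choose x hx using H
    let x' : CC U I k (n - 1) :=
      (((n - 1 - (k : ℤ)).negOnePow : ℤˣ) : ℤ) • cochMap U (cst I q (n - 1 - (k : ℤ))).hom k xz.1
    let b' : CC U I (k + 1) (n - 1) := cochMap U (cst I (q - 1) (n - 1 - ((k + 1 : ℕ) : ℤ))).hom (k + 1) x
    have hvx : cv U I k (n - 1) n x' = 0 := by
      simp only [x', map_zsmul, cv]
      rw [cochMap_comp, cst_d I (by push_cast; omega),
        ← d_cst I (show q + 1 = n - (k : ℤ) by simp only [q]; push_cast; omega), ← cochMap_comp,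
        show cochMap U (I.d q (q + 1)).hom k xz.1 = 0 from xz.2, map_zero, smul_zero]
    have hhx : ch U I k (n - 1) n x' = cochD (I.X q).obj U k xz.1 := by
      simp only [x']
      rw [map_zsmul, ch_apply, cochD_cochMap, cochMap_comp, smul_smul, ← Units.val_mul,
        Int.units_mul_self, Units.val_one, one_smul, cst_inv I (by simp only [q]; push_cast; omega),
        cochMap_id]
    refine ⟨M.single (n - 1) k x' + M.single (n - 1) (k + 1) b', ?_, ?_⟩
    · rw [map_add]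
      refine DC.Supp.add (M.supp_of_eq _ ((M.supp_single _ k x').D n) ?_)
        ((M.supp_single _ (k + 1) b').D n)
      exact (M.D_single_same _ _ k x').trans hvx
    · rw [map_add, Pi.add_apply, M.D_single_succ, M.D_single_same]
      change ch U I k (n - 1) n x' + cochMap U (I.d _ _).hom (k + 1) (cochMap U _ (k + 1) x) = _
      rw [hhx, cochMap_comp, cst_d I (by simp only [q]; push_cast; omega)]
      have : cochMap U (I.d (q - 1) q).hom (k + 1) x = d'.1 := funext hx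
      rw [this]
      change _ + (y.1.1 (k + 1) - cochD (I.X q).obj U k xz.1) = _
      abel

variable (hI : ∀ n, TopCat.Sheaf.IsFlasque (I.X n))

/-- Classes of cycles, in hypercohomology over the union. -/
noncomputable def clsF (n : ℤ) (p : ℕ) :
    (dc U I a ha).FZ n p →+ CohCx.HDU K n (iSup U) :=
  (((hEquiv U I a ha hI n).trans (post I e n (iSup U))).toAddMonoidHom.comp
    (QuotientAddGroup.mk' ((dc U I a ha).B n))).comp ((dc U I a ha).FZ n p).subtype

/-- The steps of the filtration. -/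
noncomputable def G (n : ℤ) (p : ℕ) : Submodule ℤ (CohCx.HDU K n (iSup U)) :=
  AddSubgroup.toIntSubmodule (clsF U I a ha e hI n p).range

lemma mem_G_iff {n : ℤ} {p : ℕ} {z : CohCx.HDU K n (iSup U)} :
    z ∈ G U I a ha e hI n p ↔ ∃ y, clsF U I a ha e hI n p y = z := Iff.rfl

lemma G_zero (n : ℤ) : G U I a ha e hI n 0 = ⊤ := by
  refine eq_top_iff.2 fun z _ => ?_
  obtain ⟨h, rfl⟩ := ((hEquiv U I a ha hI n).trans (post I e n (iSup U))).surjective z
  obtain ⟨y, rfl⟩ := QuotientAddGroup.mk_surjective h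
  exact ⟨⟨y, (dc U I a ha).supp_zero _⟩, rfl⟩

lemma G_antitone (n : ℤ) : Antitone (G U I a ha e hI n) := fun p p' h z hz => by
  obtain ⟨y, rfl⟩ := hz
  exact ⟨⟨y.1, DC.Supp.mono (M := dc U I a ha) y.2 h⟩, rfl⟩

lemma G_eq_bot (n : ℤ) (N : ℕ) (hN : n < a + (N : ℤ)) : G U I a ha e hI n N = ⊥ := by
  refine eq_bot_iff.2 fun z hz => ?_
  obtain ⟨y, rfl⟩ := hz
  have : y = 0 := Subtype.ext (Subtype.ext ((dc U I a ha).eq_zero_of_supp y.1.1 y.2 hN))
  rw [this, map_zero]
  exact Submodule.zero_mem _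

lemma mem_G_one_iff (n : ℤ) (z : CohCx.HDU K n (iSup U)) :
    z ∈ G U I a ha e hI n 1 ↔ ∀ b : Fin 1 → ι,
      CohCx.HDUres K n (homOfLE ((inter_le U b 0).trans (le_iSup U (b 0)))) z = 0 := by
  let M := dc U I a ha
  obtain ⟨h, rfl⟩ := ((hEquiv U I a ha hI n).trans (post I e n (iSup U))).surjective z
  obtain ⟨s, rfl⟩ := (aug U I a ha hI).toH_surjective n h
  have hz : ((hEquiv U I a ha hI n).trans (post I e n (iSup U))) ((aug U I a ha hI).toH n s) =
      cl I e n (iSup U) s := congrArg (post I e n (iSup U)) (hEquiv_toH U I a ha hI n s)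
  have hrs : ∀ b : Fin 1 → ι, rs (I.X n).obj ((inter_le U b 0).trans (le_iSup U (b 0))) s.1 ∈
      ((I.d n (n + 1)).hom.app (op (inter U b))).hom.ker := fun b => by
    rw [AddMonoidHom.mem_ker]
    refine (ConcreteCategory.congr_hom
      ((I.d n (n + 1)).hom.naturality (homOfLE ((inter_le U b 0).trans (le_iSup U (b 0)))).op) s.1).trans ?_
    exact (congrArg (rs (I.X (n + 1)).obj ((inter_le U b 0).trans (le_iSup U (b 0)))) s.2).trans
      (map_zero _)
  have hres : ∀ b : Fin 1 → ι, CohCx.HDUres K n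
      (homOfLE ((inter_le U b 0).trans (le_iSup U (b 0)))) (cl I e n (iSup U) s) = 0 ↔
      ∃ x, ((I.d (n - 1) n).hom.app (op (inter U b))).hom x = cres U (I.X n).obj s.1 b := fun b => by
    rw [cl_res I e n _ s ⟨_, hrs b⟩ rfl, cl_eq_zero_iff]
    rfl
  rw [hz]
  simp only [hres]
  constructor
  · rintro ⟨y, hy⟩ b
    have hy' : (QuotientAddGroup.mk y.1 : M.H n) = (aug U I a ha hI).toH n s :=
      ((hEquiv U I a ha hI n).trans (post I e n (iSup U))).injective (hy.trans hz.symm)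
    obtain ⟨w, hw⟩ := (DC.mem_B M _).1 ((QuotientAddGroup.eq).1 hy')
    have h0 := congrFun hw 0
    change cv U I 0 (n - 1) n (w 0) = -(y.1.1 0) + (aug U I a ha hI).ηF n s.1 0 at h0
    rw [show y.1.1 0 = 0 from y.2 0 zero_lt_one, neg_zero, Aug.ηF_zero] at h0
    replace h0 := h0.trans (zero_add _)
    change cv U I 0 (n - 1) n (w 0) = etaI U I n s.1 at h0
    have h1 := congrArg (cochMap U (cst I (n - ((0 : ℕ) : ℤ)) n).hom 0) h0
    change cochMap U (cst I (n - ((0 : ℕ) : ℤ)) n).hom 0 (cv U I 0 (n - 1) n (w 0)) =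
      cochMap U (cst I (n - ((0 : ℕ) : ℤ)) n).hom 0
        (cochMap U (cst I n (n - ((0 : ℕ) : ℤ))).hom 0 (cres U (I.X n).obj s.1)) at h1
    rw [cochMap_cst_inv U I (by simp), cv, cochMap_comp, d_cst I (by simp)] at h1
    refine ⟨cochMap U (cst I (n - 1 - ((0 : ℕ) : ℤ)) (n - 1)).hom 0 (w 0) b, ?_⟩
    rw [← h1]
    change cochMap U (I.d (n - 1) n).hom 0 (cochMap U _ 0 (w 0)) b = _
    rw [cochMap_comp, cst_d I (by simp)]
  · intro hb
    choose x hx using hb
    let w : M.Fam (n - 1) :=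
      M.single (n - 1) 0 (cochMap U (cst I (n - 1) (n - 1 - ((0 : ℕ) : ℤ))).hom 0 x)
    have hw0 : M.D (n - 1) n w 0 = etaI U I n s.1 := by
      rw [M.D_single_same]
      show _ = cochMap U (cst I n (n - ((0 : ℕ) : ℤ))).hom 0 (cres U (I.X n).obj s.1)
      change cochMap U (I.d _ _).hom 0 (cochMap U _ 0 x) = _
      rw [cochMap_comp, cst_d I (by simp),
        ← d_cst I (show n = n - ((0 : ℕ) : ℤ) by simp), ← cochMap_comp,
        show cochMap U (I.d (n - 1) n).hom 0 x = cres U (I.X n).obj s.1 from funext hx]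
    have hc : (aug U I a ha hI).ηF n s.1 - M.D (n - 1) n w ∈ M.Z n := by
      change M.D n (n + 1) _ = 0
      rw [map_sub, M.D_D (by omega) rfl, sub_zero, Aug.D_ηF _ rfl,
        show (aug U I a ha hI).d n (n + 1) s.1 = 0 from s.2, map_zero]
    refine ⟨⟨⟨_, hc⟩, fun j hj => ?_⟩, ?_⟩
    · obtain rfl : j = 0 := by omega
      change (aug U I a ha hI).ηF n s.1 0 - M.D (n - 1) n w 0 = 0
      rw [hw0, Aug.ηF_zero]
      exact sub_self _
    · rw [← hz]
      refine congrArg ((hEquiv U I a ha hI n).trans (post I e n (iSup U))) ?_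
      refine (M.eq_mk_of_sub_mem _ _ w ?_).symm
      change _ = (aug U I a ha hI).ηF n s.1 - _
      exact (sub_sub_cancel _ _).symm

end CTot49
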