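import Groth.Agent.CTot49.Filt

/-! The Cech-to-hypercohomology filtration. -/

set_option autoImplicit false
universe u

open CategoryTheory CategoryTheory.Limits Opposite TopologicalSpace Groth.Agent.TopCoh49

namespace CTot49

variable {X : TopCat.{u}} {ι : Type u} (U : ι → Opens X)

/-- An additive map as an integral linear map, for any integral module structures. -/
def intLin {A B : Type u} [AddCommGroup A] [AddCommGroup B] [Module ℤ A] [Module ℤ B]
    (f : A →+ B) : A →ₗ[ℤ] B where
  toFun := f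
  map_add' := map_add f
  map_smul' c x := by
    simpa using map_intCast_smul f ℤ ℤ c x

variable [HasDerivedCategory.{u} (CohTop.Ab X)]

theorem cech_filtration (K : CochainComplex (CohTop.Ab X) ℤ) (a : ℤ)
    (ha : ∀ i : ℤ, i < a → IsZero (K.X i)) (n : ℤ) (W : Opens X) (hW : iSup U = W)
    (hle : ∀ i, U i ≤ W) :
    ∃ (N : ℕ) (G : ℕ → Submodule ℤ (CohCx.HDU (DerivedCategory.Q.obj K) n W)),
      Antitone G ∧ G 0 = ⊤ ∧ G N = ⊥ ∧
      G 1 = ⨅ i, AddSubgroup.toIntSubmodule
        (CohCx.HDUres (DerivedCategory.Q.obj K) n (homOfLE (hle i) : U i ⟶ W)).ker ∧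
      ∀ p : ℕ, HTor.IsSubquotient ℤ (HTor.grDesc G p)
        (CohB1.cechHTop U (CohCx.HDUPresheaf (DerivedCategory.Q.obj K) (n - p)) p) := by
  subst hW
  haveI : K.IsStrictlyGE a := (CochainComplex.isStrictlyGE_iff K a).2 ha
  obtain ⟨I, _, _, t, hI, ht⟩ := Groth.Agent.Desc45.exists_res K a
  haveI := ht
  have haI : ∀ i : ℤ, i < a → IsZero (I.X i) := fun i hi => I.isZero_of_isStrictlyGE a i hi
  have hfl : ∀ i, TopCat.Sheaf.IsFlasque (I.X i) := fun i => by
    haveI := hI i
    exact isFlasque_of_injective (I.X i)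
  let e : DerivedCategory.Q.obj I ≅ DerivedCategory.Q.obj K :=
    (asIso (DerivedCategory.Q.map t)).symm
  let F := G U I a haI e hfl n
  refine ⟨(n + 1 - a).toNat, F, G_antitone U I a haI e hfl n, G_zero U I a haI e hfl n,
    G_eq_bot U I a haI e hfl n _ (by omega), ?_, fun p => ?_⟩
  · have hcomp : ∀ {V V' : Opens X} (h : V' ≤ V) (hV : V ≤ iSup U)
        (z : CohCx.HDU (DerivedCategory.Q.obj K) n (iSup U)),
        CohCx.HDUres _ n (homOfLE hV) z = 0 →
          CohCx.HDUres (DerivedCategory.Q.obj K) n (homOfLE (h.trans hV)) z = 0 := by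
      intro V V' h hV z hz
      refine (ConcreteCategory.congr_hom
        ((CohCx.HDUPresheaf (DerivedCategory.Q.obj K) n).map_comp (homOfLE hV).op (homOfLE h).op) z).trans ?_
      exact (congrArg (CohCx.HDUres (DerivedCategory.Q.obj K) n (homOfLE h)) hz).trans (map_zero _)
    refine SetLike.ext fun z => (mem_G_one_iff U I a haI e hfl n z).trans ?_
    rw [Submodule.mem_iInf]
    refine ⟨fun h i => ?_, fun h b => ?_⟩
    · exact hcomp (le_iInf fun _ => le_rfl) _ z (h fun _ => i)
    · exact hcomp (inter_le U b 0) (le_iSup U (b 0)) z (h (b 0))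
  · let Ψ : (dc U I a haI).FZ n p →+ HTor.grDesc F p :=
      (Submodule.mkQ ((F (p + 1)).comap (F p).subtype)).toAddMonoidHom.comp
        (AddMonoidHom.mk' (fun y => (⟨clsF U I a haI e hfl n p y, y, rfl⟩ : F p))
          (fun x y => Subtype.ext (map_add (clsF U I a haI e hfl n p) x y)))
    have hΨ : Function.Surjective Ψ := fun q => by
      obtain ⟨⟨z, hz⟩, rfl⟩ := Submodule.mkQ_surjective _ q
      obtain ⟨y, rfl⟩ := hz
      exact ⟨y, rfl⟩
    refine isSubquotient_of_linear (intLin Ψ) hΨ (intLin (lead U I a haI e n p)) fun y hy => ?_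
    obtain ⟨y', hy'⟩ := cls_mem_of_lead_eq_zero U I a haI e n p y hy
    refine (Submodule.Quotient.mk_eq_zero _).2 ⟨y', ?_⟩
    exact (congrArg ((hEquiv U I a haI hfl n).trans (post I e n (iSup U))) hy').symm

end CTot49
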