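import Groth.Agent.CTot49.TotIso
import Groth.Agent.CTot49.Inj
import Groth.Agent.CTot49.AbQIso
import Groth.Agent.Desc45.AcyclicClass

/-! Cech hypercohomology of covers acyclic for each term. -/

set_option autoImplicit false
universe u

open CategoryTheory CategoryTheory.Limits Opposite TopologicalSpace Groth.Agent.TopCoh49

namespace CTot49

variable {X : TopCat.{u}}

/-- Sections over an open. -/
noncomputable abbrev secV (V : Opens X) : CohTop.Ab X ⥤ AddCommGrpCat.{u} :=
  sheafToPresheaf (Opens.grothendieckTopology X) AddCommGrpCat.{u} ⋙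
    (evaluation (Opens X)ᵒᵖ AddCommGrpCat.{u}).obj (op V)

lemma subsingleton_E_biprod {A B : CohTop.Ab X} (n : ℕ) (V : Opens X)
    (hA : Subsingleton (E A n V)) (hB : Subsingleton (E B n V)) :
    Subsingleton (E (A ⊞ B) n V) := by
  refine subsingleton_of_forall_eq 0 fun x => ?_
  obtain ⟨y, rfl⟩ := exact₂ (ShortComplex.Splitting.ofHasBinaryBiproduct A B).shortExact n V x
    (hB.elim _ _)
  rw [hA.elim y 0, map_zero]

/-- Sheaves acyclic over `V`. -/
def acClass (V : Opens X) : Groth.Agent.Desc45.AcyclicClass (secV V) where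
  P F := ∀ q, Subsingleton (E F (q + 1) V)
  of_isZero F hF q := subsingleton_of_forall_eq 0 fun x => by
    rw [← Abelian.Ext.comp_mk₀_id x, hF.eq_of_src (𝟙 F) 0]
    simp
  of_injective F hF q := subsingleton_E_of_injective F q V
  biprod A B hA hB q := subsingleton_E_biprod (q + 1) V (hA q) (hB q)
  X₃ {S} hS h₁ h₂ q := by
    haveI := h₂ q
    haveI := h₁ (q + 1)
    refine subsingleton_of_forall_eq 0 fun x => ?_
    obtain ⟨y, rfl⟩ := exact₃ hS (rfl : q + 1 + 1 = q + 2) V x (Subsingleton.elim _ _)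
    rw [Subsingleton.elim y 0, map_zero]
  epi {S} hS h₁ := by
    rw [AddCommGrpCat.epi_iff_surjective]
    exact surjective_g_of_subsingleton_H1 hS V (h₁ 0)

variable {ι : Type u} (U : ι → Opens X) {K I : CochainComplex (CohTop.Ab X) ℤ} (φ : K ⟶ I) (a : ℤ)
  (haK : ∀ i : ℤ, i < a → IsZero (K.X i)) (haI : ∀ i : ℤ, i < a → IsZero (I.X i))

lemma isColQIso_dcMap
    (h : ∀ (p : ℕ) (c : Fin (p + 1) → ι),
      QuasiIso (((secV (inter U c)).mapHomologicalComplex (ComplexShape.up ℤ)).map φ)) :
    (dcMap U φ a haK haI).IsColQIso where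
  inj p n m k e e' c z hc hz := by
    have H : ∀ b : Fin (p + 1) → ι, ∃ x : (K.X (n - (p : ℤ))).obj.obj (op (inter U b)),
        ((K.d (n - (p : ℤ)) (m - (p : ℤ))).hom.app (op (inter U b))).hom x = c b := fun b => by
      haveI := h p b
      exact qiso_inj (((secV (inter U b)).mapHomologicalComplex (ComplexShape.up ℤ)).map φ)
        (i := n - (p : ℤ)) (j := m - (p : ℤ)) (k := k - (p : ℤ)) (by omega) (by omega) (c b) (z b)
        (congrFun hc b) (congrFun hz b)
    choose x hx using H
    exact ⟨x, funext hx⟩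
  surj p n m k e e' z hz := by
    have H : ∀ b : Fin (p + 1) → ι, ∃ (c : (K.X (m - (p : ℤ))).obj.obj (op (inter U b)))
        (w : (I.X (n - (p : ℤ))).obj.obj (op (inter U b))),
        ((K.d (m - (p : ℤ)) (k - (p : ℤ))).hom.app (op (inter U b))).hom c = 0 ∧
        z b = ((φ.f (m - (p : ℤ))).hom.app (op (inter U b))).hom c +
          ((I.d (n - (p : ℤ)) (m - (p : ℤ))).hom.app (op (inter U b))).hom w := fun b => by
      haveI := h p b
      exact qiso_surj (((secV (inter U b)).mapHomologicalComplex (ComplexShape.up ℤ)).map φ)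
        (i := n - (p : ℤ)) (j := m - (p : ℤ)) (k := k - (p : ℤ)) (by omega) (by omega) (z b)
        (congrFun hz b)
    choose c w hc hw using H
    exact ⟨c, w, funext hc, funext hw⟩

theorem cech_hypercohomology [HasDerivedCategory.{u} (CohTop.Ab X)]
    (K : CochainComplex (CohTop.Ab X) ℤ) (ha : ∀ i : ℤ, i < a → IsZero (K.X i))
    (h : ∀ (p : ℕ) (c : Fin (p + 1) → ι) (i : ℤ) (q : ℕ),
      Subsingleton (E (K.X i) (q + 1) (inter U c))) (n : ℤ) :
    Nonempty ((CechTot.hyperH U ((CechTot.presheafCx X).obj K) n : AddCommGrpCat.{u}) ≃+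
      CohCx.HDU (DerivedCategory.Q.obj K) n (iSup U)) := by
  haveI : K.IsStrictlyGE a := (CochainComplex.isStrictlyGE_iff K a).2 ha
  obtain ⟨I, _, _, t, hI, ht⟩ := Groth.Agent.Desc45.exists_res K a
  haveI := ht
  have haI : ∀ i : ℤ, i < a → IsZero (I.X i) := fun i hi => I.isZero_of_isStrictlyGE a i hi
  have hfl : ∀ i, TopCat.Sheaf.IsFlasque (I.X i) := fun i => by
    haveI := hI i
    exact isFlasque_of_injective (I.X i)
  have hcol := isColQIso_dcMap U t a ha haI fun p c => by
    haveI : PreservesFiniteLimits (secV (inter U c)) := comp_preservesFiniteLimits _ _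
    exact Groth.Agent.Desc45.AcyclicClass.quasiIso_map (acClass (inter U c)) t a
      (fun i q => h p c i q) hI
  obtain ⟨e₁⟩ := nonempty_hyperH_equiv U K a ha n
  let e₂ := AddEquiv.ofBijective _ (DCHom.onH_bijective hcol n)
  let e₃ := hEquiv U I a haI hfl n
  let i₄ := (shiftFunctor (DerivedCategory (CohTop.Ab X)) n).mapIso (asIso (DerivedCategory.Q.map t))
  exact ⟨((e₁.trans e₂).trans e₃).trans (AddEquiv.mk' i₄.homToEquiv
    (fun x y => Preadditive.add_comp _ _ _ x y i₄.hom) : CohCx.HDU (DerivedCategory.Q.obj K) n (iSup U) ≃+ _).symm⟩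

end CTot49
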