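import Groth.Prelude.Def_CechTot
import Groth.Agent.CTot49.Cech

/-! The total complex of the Cech bicomplex, in explicit families. -/

set_option autoImplicit false
universe u

open CategoryTheory CategoryTheory.Limits Opposite TopologicalSpace Groth.Agent.TopCoh49

namespace CTot49

variable {X : TopCat.{u}} {ι : Type u} (U : ι → Opens X)
  (K : CochainComplex (CohTop.Ab X) ℤ)

/-- The Cech bicomplex of Mathlib. -/
noncomputable abbrev bi : HomologicalComplex₂ AddCommGrpCat.{u} (ComplexShape.up ℤ) (ComplexShape.up ℤ) :=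
  CechTot.cech₂ U ((CechTot.presheafCx X).obj K)

/-- Its terms as explicit cochains. -/
noncomputable def ec (q : ℤ) (p : ℕ) :
    ((bi U K).X q).X (p : ℤ) ≅ AddCommGrpCat.of (Coch (K.X q).obj U p) :=
  (cechCx (K.X q).obj U).extendXIso ComplexShape.embeddingUpNat (i := p) rfl ≪≫
    AddEquiv.toAddCommGrpIso (cochEquiv (K.X q).obj U p)

lemma iso_aux {C : Type*} [Category C] {A B A' B' T T' : C} (a : A ≅ B) (b : A' ≅ B') (e : B ≅ T)
    (e' : B' ≅ T') (f : B ⟶ B') (g : T ⟶ T') (h : f ≫ e'.hom = e.hom ≫ g) :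
    (a.hom ≫ f ≫ b.inv) ≫ (b ≪≫ e').hom = (a ≪≫ e).hom ≫ g := by
  simp [h]

lemma ec_outer (q q' : ℤ) (p : ℕ) :
    ((bi U K).d q q').f (p : ℤ) ≫ (ec U K q' p).hom =
      (ec U K q p).hom ≫ AddCommGrpCat.ofHom (cochMap U (K.d q q').hom p) := by
  change (HomologicalComplex.extendMap ((cechComplexFunctor U).map (K.d q q').hom)
    ComplexShape.embeddingUpNat).f (p : ℤ) ≫ _ = _
  rw [HomologicalComplex.extendMap_f _ ComplexShape.embeddingUpNat (i := p) (i' := (p : ℤ)) rfl]
  refine iso_aux _ _ _ _ _ _ ?_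
  refine AddCommGrpCat.hom_ext (AddMonoidHom.ext fun x => ?_)
  exact cochEquiv_map U (K.d q q').hom p x

lemma ec_inner (q : ℤ) (p : ℕ) :
    ((bi U K).X q).d (p : ℤ) ((p + 1 : ℕ) : ℤ) ≫ (ec U K q (p + 1)).hom =
      (ec U K q p).hom ≫ AddCommGrpCat.ofHom (cochD (K.X q).obj U p) := by
  change ((cechCx (K.X q).obj U).extend ComplexShape.embeddingUpNat).d _ _ ≫ _ = _
  rw [HomologicalComplex.extend_d_eq _ ComplexShape.embeddingUpNat (i := p) (j := p + 1) (i' := (p : ℤ)) (j' := ((p + 1 : ℕ) : ℤ)) rfl rfl]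
  refine iso_aux _ _ _ _ _ _ ?_
  refine AddCommGrpCat.hom_ext (AddMonoidHom.ext fun x => ?_)
  exact cochEquiv_d (K.X q).obj U p x

variable (a : ℤ) (ha : ∀ i : ℤ, i < a → IsZero (K.X i))

/-- The component of the comparison. -/
noncomputable def comp (q : ℤ) (p : ℕ) (n : ℤ) :
    ((bi U K).X q).X (p : ℤ) ⟶ AddCommGrpCat.of ((dc U K a ha).Fam n) :=
  (ec U K q p).hom ≫ AddCommGrpCat.ofHom
    (((dc U K a ha).single n p).comp (cochMap U (cst K q (n - (p : ℤ))).hom p))

open Classical in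
/-- The component at an integer inner degree. -/
noncomputable def comp' (q i : ℤ) (n : ℤ) :
    ((bi U K).X q).X i ⟶ AddCommGrpCat.of ((dc U K a ha).Fam n) :=
  if h : 0 ≤ i then
    (HomologicalComplex.XIsoOfEq ((bi U K).X q) (show i = ((i.toNat : ℕ) : ℤ) by omega)).hom ≫
      comp U K a ha q i.toNat n
  else 0

lemma comp'_natCast (q : ℤ) (p : ℕ) (n : ℤ) :
    comp' U K a ha q (p : ℤ) n = comp U K a ha q p n := by
  have aux : ∀ (p' : ℕ) (h : (p : ℤ) = (p' : ℤ)), p' = p →
      (HomologicalComplex.XIsoOfEq ((bi U K).X q) h).hom ≫ comp U K a ha q p' n =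
        comp U K a ha q p n := by
    rintro p' h rfl
    exact Category.id_comp _
  rw [comp', dif_pos (Int.natCast_nonneg p)]
  exact aux _ _ (Int.toNat_natCast p)

/-- The comparison map. -/
noncomputable def Θ (n : ℤ) :
    (CechTot.tot U ((CechTot.presheafCx X).obj K)).X n ⟶ AddCommGrpCat.of ((dc U K a ha).Fam n) :=
  (bi U K).totalDesc fun q i _ => comp' U K a ha q i n

lemma ι_Θ (q : ℤ) (p : ℕ) (n : ℤ) (h : q + (p : ℤ) = n) :
    (bi U K).ιTotal (ComplexShape.up ℤ) q (p : ℤ) n h ≫ Θ U K a ha n = comp U K a ha q p n := by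
  rw [Θ, HomologicalComplex₂.ι_totalDesc, comp'_natCast]

/-- The inclusion of a column. -/
noncomputable def κ (p : ℕ) (n : ℤ) :
    AddCommGrpCat.of (CC U K p n) ⟶ (CechTot.tot U ((CechTot.presheafCx X).obj K)).X n :=
  (ec U K (n - (p : ℤ)) p).inv ≫
    (bi U K).ιTotal (ComplexShape.up ℤ) (n - (p : ℤ)) (p : ℤ) n (sub_add_cancel n (p : ℤ))

lemma κ_Θ (p : ℕ) (n : ℤ) :
    κ U K p n ≫ Θ U K a ha n = AddCommGrpCat.ofHom ((dc U K a ha).single n p) := by
  rw [κ, Category.assoc, ι_Θ, comp, Iso.inv_hom_id_assoc, cst_self]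
  rfl

lemma ι_eq_κ (p : ℕ) (n q : ℤ) (h : q + (p : ℤ) = n) :
    (bi U K).ιTotal (ComplexShape.up ℤ) q (p : ℤ) n h =
      (ec U K q p).hom ≫ AddCommGrpCat.ofHom (cochMap U (cst K q (n - (p : ℤ))).hom p) ≫
        κ U K p n := by
  obtain rfl : q = n - (p : ℤ) := by omega
  rw [cst_self, κ]
  change _ = (ec U K (n - (p : ℤ)) p).hom ≫ 𝟙 _ ≫ _
  rw [Category.id_comp, Iso.hom_inv_id_assoc]

lemma isZero_bi (q i : ℤ) (hi : i < 0) : IsZero (((bi U K).X q).X i) :=
  HomologicalComplex.isZero_extend_X _ _ _ fun p (hp : (p : ℤ) = i) => by omega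

lemma Θ_bijective (n : ℤ) : Function.Bijective (Θ U K a ha n).hom := by
  let N := (n + 1 - a).toNat
  let Λ : AddCommGrpCat.of ((dc U K a ha).Fam n) ⟶
      (CechTot.tot U ((CechTot.presheafCx X).obj K)).X n :=
    ∑ p ∈ Finset.range N, AddCommGrpCat.ofHom
      (Pi.evalAddMonoidHom (fun j => CC U K j n) p) ≫ κ U K p n
  have h1 : Λ ≫ Θ U K a ha n = 𝟙 _ := by
    simp only [Λ, Preadditive.sum_comp, Category.assoc, κ_Θ]
    refine AddCommGrpCat.hom_ext (AddMonoidHom.ext fun x => funext fun j => ?_)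
    refine Eq.trans (congrFun ((DFunLike.congr_fun (map_sum AddCommGrpCat.homAddEquiv _ _) x).trans
      (AddMonoidHom.finsetSum_apply _ _ x)) j) ?_
    rw [Finset.sum_apply]
    change (∑ p ∈ Finset.range N, (dc U K a ha).single n p (x p) j) = x j
    rw [Finset.sum_eq_single j]
    · exact (dc U K a ha).single_same n j (x j)
    · intro b _ hb
      exact (dc U K a ha).single_ne n (x b) (Ne.symm hb)
    · intro hj
      rw [Finset.mem_range, not_lt] at hj
      rw [(dc U K a ha).eq_zero_of_top x (show n < a + (j : ℤ) by omega), map_zero]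
      rfl
  have h2 : Θ U K a ha n ≫ Λ = 𝟙 _ := by
    apply HomologicalComplex₂.total.hom_ext
    intro q i hi
    rw [Category.comp_id]
    by_cases h0 : 0 ≤ i
    swap
    · exact (isZero_bi U K q i (by omega)).eq_of_src _ _
    obtain ⟨p, rfl⟩ : ∃ p : ℕ, i = (p : ℤ) := ⟨i.toNat, by omega⟩
    change q + (p : ℤ) = n at hi
    by_cases hp : p < N
    · rw [ι_eq_κ U K p n q hi, Category.assoc, Category.assoc, reassoc_of% (κ_Θ U K a ha p n)]
      congr 2
      simp only [Λ, Preadditive.comp_sum]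
      refine (Finset.sum_eq_single p ?_ ?_).trans ?_
      · intro b _ hb
        have : AddCommGrpCat.ofHom ((dc U K a ha).single n p) ≫
            AddCommGrpCat.ofHom (Pi.evalAddMonoidHom (fun j => CC U K j n) b) = 0 :=
          AddCommGrpCat.hom_ext (AddMonoidHom.ext fun x => (dc U K a ha).single_ne n x hb)
        rw [reassoc_of% this, zero_comp]
      · exact fun h => absurd (Finset.mem_range.2 hp) h
      · have : AddCommGrpCat.ofHom ((dc U K a ha).single n p) ≫
            AddCommGrpCat.ofHom (Pi.evalAddMonoidHom (fun j => CC U K j n) p) = 𝟙 _ :=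
          AddCommGrpCat.hom_ext (AddMonoidHom.ext fun x => (dc U K a ha).single_same n p x)
        rw [reassoc_of% this]
    · haveI : Subsingleton (CC U K p n) := (dc U K a ha).sub p n (show n < a + (p : ℤ) by omega)
      rw [ι_eq_κ U K p n q hi]
      have : κ U K p n = 0 := (AddCommGrpCat.isZero_of_subsingleton _).eq_of_src _ _
      simp [this]
  exact ⟨Function.LeftInverse.injective (g := Λ.hom) (fun x => ConcreteCategory.congr_hom h2 x),
      Function.RightInverse.surjective (g := Λ.hom) (fun x => ConcreteCategory.congr_hom h1 x)⟩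

lemma Θ_d (n m : ℤ) (h : n + 1 = m) :
    (CechTot.tot U ((CechTot.presheafCx X).obj K)).d n m ≫ Θ U K a ha m =
      Θ U K a ha n ≫ AddCommGrpCat.ofHom ((dc U K a ha).D n m) := by
  apply HomologicalComplex₂.total.hom_ext
  intro q i hi
  by_cases h0 : 0 ≤ i
  swap
  · exact (isZero_bi U K q i (by omega)).eq_of_src _ _
  obtain ⟨p, rfl⟩ : ∃ p : ℕ, i = (p : ℤ) := ⟨i.toNat, by omega⟩
  change q + (p : ℤ) = n at hi
  have e1 : (ComplexShape.up ℤ).Rel q (q + 1) := rfl
  have e2 : (ComplexShape.up ℤ).Rel (p : ℤ) ((p + 1 : ℕ) : ℤ) := by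
    change (p : ℤ) + 1 = _; push_cast; rfl
  change _ ≫ ((bi U K).D₁ _ n m + (bi U K).D₂ _ n m) ≫ _ = _
  rw [Preadditive.add_comp, Preadditive.comp_add, HomologicalComplex₂.ι_D₁_assoc,
    HomologicalComplex₂.ι_D₂_assoc,
    (bi U K).d₁_eq _ e1 (p : ℤ) m (show q + 1 + (p : ℤ) = m by omega),
    (bi U K).d₂_eq _ q e2 m (show q + ((p + 1 : ℕ) : ℤ) = m by push_cast; omega),
    reassoc_of% (ι_Θ U K a ha q p n hi)]
  simp only [Linear.units_smul_comp, Category.assoc, ι_Θ, comp]
  rw [reassoc_of% (ec_outer U K q (q + 1) p), reassoc_of% (ec_inner U K q p)]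
  change (1 : ℤˣ) • _ + q.negOnePow • _ = _
  rw [one_smul, Units.smul_def, ← Preadditive.comp_zsmul, ← Preadditive.comp_add]
  congr 1
  obtain rfl : q = n - (p : ℤ) := by omega
  refine AddCommGrpCat.hom_ext (AddMonoidHom.ext fun x => ?_)
  change (dc U K a ha).single m p (cochMap U (cst K (n - (p : ℤ) + 1) (m - (p : ℤ))).hom p
      (cochMap U (K.d (n - (p : ℤ)) (n - (p : ℤ) + 1)).hom p x)) +
    (((n - (p : ℤ)).negOnePow : ℤˣ) : ℤ) •
      (dc U K a ha).single m (p + 1) (cochMap U (cst K (n - (p : ℤ)) (m - ((p + 1 : ℕ) : ℤ))).hom (p + 1)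
        (cochD (K.X (n - (p : ℤ))).obj U p x)) =
    (dc U K a ha).D n m ((dc U K a ha).single n p (cochMap U (cst K (n - (p : ℤ)) (n - (p : ℤ))).hom p x))
  rw [cochMap_comp, d_cst K (by omega), cst_self, cochMap_id, ← map_zsmul, ← ch_apply]
  funext j
  rcases lt_trichotomy j p with hj | rfl | hj
  · rw [Pi.add_apply, (dc U K a ha).single_ne m _ (by omega),
      (dc U K a ha).single_ne m _ (by omega), ((dc U K a ha).supp_single n p x).D m j hj]
    exact zero_add _
  · rw [Pi.add_apply, (dc U K a ha).single_same, (dc U K a ha).single_ne m _ (by omega),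
      (dc U K a ha).D_single_same]
    exact add_zero _
  · rcases eq_or_lt_of_le (Nat.succ_le_of_lt hj) with rfl | hj'
    · rw [Pi.add_apply, (dc U K a ha).single_same, (dc U K a ha).single_ne m _ (by omega),
        (dc U K a ha).D_single_succ]
      exact zero_add _
    · rw [Pi.add_apply, (dc U K a ha).single_ne m _ (by omega),
        (dc U K a ha).single_ne m _ (by omega), (dc U K a ha).D_single_gt n m p x (by omega)]
      exact zero_add _

theorem nonempty_hyperH_equiv (n : ℤ) :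
    Nonempty ((CechTot.hyperH U ((CechTot.presheafCx X).obj K) n : AddCommGrpCat.{u}) ≃+
      (dc U K a ha).H n) := by
  let T := CechTot.tot U ((CechTot.presheafCx X).obj K)
  let M := dc U K a ha
  let θ₀ : (T.d n (n + 1)).hom.ker →+ M.Z n :=
    (((Θ U K a ha n).hom).comp (T.d n (n + 1)).hom.ker.subtype).codRestrict (M.Z n) fun x => by
      change M.D n (n + 1) ((Θ U K a ha n).hom x.1) = 0
      refine (ConcreteCategory.congr_hom (Θ_d U K a ha n (n + 1) rfl) x.1).symm.trans ?_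
      exact (congrArg (Θ U K a ha (n + 1)).hom x.2).trans (map_zero _)
  let θ := (QuotientAddGroup.mk' (M.B n)).comp θ₀
  have hsurj : Function.Surjective θ := by
    intro q
    obtain ⟨y, rfl⟩ := QuotientAddGroup.mk_surjective q
    obtain ⟨x, hx⟩ := (Θ_bijective U K a ha n).2 y.1
    refine ⟨⟨x, (Θ_bijective U K a ha (n + 1)).1 ?_⟩, congrArg (QuotientAddGroup.mk (s := M.B n)) (Subtype.ext hx)⟩
    refine (ConcreteCategory.congr_hom (Θ_d U K a ha n (n + 1) rfl) x).trans ?_
    exact (congrArg (M.D n (n + 1)) hx).trans (y.2.trans (map_zero _).symm)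
  have hker : ∀ x, θ x = 0 ↔ ∃ y, T.d (n - 1) n y = (x : T.X n) := by
    intro x
    refine Iff.trans (QuotientAddGroup.eq_zero_iff _) ⟨?_, ?_⟩
    · rintro ⟨w, hw⟩
      obtain ⟨y, rfl⟩ := (Θ_bijective U K a ha (n - 1)).2 w
      exact ⟨y, (Θ_bijective U K a ha n).1
        ((ConcreteCategory.congr_hom (Θ_d U K a ha (n - 1) n (by omega)) y).trans hw)⟩
    · rintro ⟨y, hy⟩
      exact ⟨(Θ U K a ha (n - 1)).hom y,
        (ConcreteCategory.congr_hom (Θ_d U K a ha (n - 1) n (by omega)) y).symm.trans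
          (congrArg (Θ U K a ha n).hom hy)⟩

  obtain ⟨e⟩ := Groth.Agent.SpSeq49.nonempty_homology_iso_of_surj (K := T) (i := n - 1) (j := n)
    (k := n + 1) (by omega) rfl (A := AddCommGrpCat.of (M.H n)) θ hsurj hker
  exact ⟨e.addCommGroupIsoToAddEquiv⟩

end CTot49
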